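import Groth.Agent.SubtrRefineLib.Finite

/-! Subtrusive morphisms of finite presentation are refined by an open cover followed by a proper morphism;
quasi-finite ones by an open cover followed by a finite morphism. -/

set_option autoImplicit false
set_option linter.style.haveILetI false
set_option backward.isDefEq.respectTransparency false
set_option backward.isDefEq.respectTransparency.types false

universe u
open CategoryTheory CategoryTheory.Limits AlgebraicGeometry TopologicalSpace Opposite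

noncomputable section

namespace Groth.Agent.SubtrRefineLib

open Groth.Agent.ValEtDescLib

variable {X Y : Scheme.{u}}

theorem univSSubtrusive_of_comp {Z : Scheme.{u}} (h : Z ⟶ X) (f : X ⟶ Y)
    (H : Subtr.UnivSSubtrusive (h ≫ f)) : Subtr.UnivSSubtrusive f := by
  intro X' Y' i₁ i₂ f' sq y y' hy
  obtain ⟨z, z', hz, e, e'⟩ :=
    H (pullback.fst h i₁) i₂ (pullback.snd h i₁ ≫ f') ((IsPullback.of_hasPullback h i₁).flip.paste_horiz sq) hy
  exact ⟨pullback.snd h i₁ z, pullback.snd h i₁ z', hz.map (pullback.snd h i₁).continuous,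
    by rw [← Scheme.Hom.comp_apply]; exact e, by rw [← Scheme.Hom.comp_apply]; exact e'⟩

theorem univSSubtrusive_of_properRefinable {f : X ⟶ Y} (H : ProperRefinable f) : Subtr.UnivSSubtrusive f := by
  obtain ⟨P, q, h1, h2, h3, T, t, m, hm, ht1, ht2, ht3, ht4, ht5⟩ := H
  refine univSSubtrusive_of_comp m f ?_
  rw [hm]
  exact univSSubtrusive_comp t q (univSSubtrusive_of_flat t) (univSSubtrusive_of_closed q)

/-- Zariski-local sections after a base change in a class of morphisms. -/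
def SectionRefinable (Pp : MorphismProperty Scheme.{u}) (f : X ⟶ Y) : Prop :=
  ∃ (P : Scheme.{u}) (q : P ⟶ Y), Pp q ∧ Surjective q ∧ LocallyOfFinitePresentation q ∧
    ∀ z : P, ∃ W : P.Opens, z ∈ W ∧ Liftable f (W.ι ≫ q)

theorem SectionRefinable.of_isPullback {Pp : MorphismProperty Scheme.{u}} [Pp.IsStableUnderBaseChange]
    {X₀ Y₀ : Scheme.{u}} {g : X ⟶ X₀} {f : X ⟶ Y} {f₀ : X₀ ⟶ Y₀} {b : Y ⟶ Y₀}
    (hpb : IsPullback g f f₀ b) (H : SectionRefinable Pp f₀) : SectionRefinable Pp f := by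
  obtain ⟨P, q, h1, h2, h3, h4⟩ := H
  refine ⟨pullback q b, pullback.snd q b, MorphismProperty.pullback_snd _ _ h1, inferInstance, inferInstance,
    fun z => ?_⟩
  obtain ⟨W, hW, s, hs⟩ := h4 (pullback.fst q b z)
  refine ⟨pullback.fst q b ⁻¹ᵁ W, hW, hpb.lift ((pullback.fst q b ∣_ W) ≫ s)
    ((pullback.fst q b ⁻¹ᵁ W).ι ≫ pullback.snd q b) ?_, hpb.lift_snd _ _ _⟩
  rw [Category.assoc, hs, morphismRestrict_ι_assoc, pullback.condition, Category.assoc]

theorem exists_finite_liftable [IsNoetherian Y] (f : X ⟶ Y)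
    (H : ∀ U : Y.Opens, IsAffineOpen U → ∃ (P : Scheme.{u}) (π : P ⟶ U.toScheme), IsFinite π ∧ Surjective π ∧
      ∀ z : P, ∃ W : P.Opens, z ∈ W ∧ Liftable f (W.ι ≫ π ≫ U.ι)) :
    SectionRefinable @IsFinite f := by
  classical
  obtain ⟨t, ht⟩ := isCompact_univ.elim_finite_subcover (fun V : Y.affineOpens => ((V : Y.Opens) : Set Y))
    (fun V => V.1.isOpen) fun y _ => by
      obtain ⟨V, hV, hy, -⟩ := exists_isAffineOpen_mem_and_subset (X := Y) (x := y) (U := ⊤) trivial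
      exact Set.mem_iUnion.2 ⟨⟨V, hV⟩, hy⟩
  obtain ⟨P, q, h1, h2, h3⟩ := exists_near_all (Q := fun {_} k => Liftable f k)
    (fun H h _ e => by obtain ⟨s, hs⟩ := H; exact ⟨h ≫ s, by rw [Category.assoc, hs, e]⟩) @IsFinite
    (fun V : t => V.1.1) (fun y => by
      obtain ⟨V, hV, hy⟩ := Set.mem_iUnion₂.1 (ht (Set.mem_univ y))
      exact ⟨⟨V, hV⟩, hy⟩) fun V => by
        obtain ⟨PU, π, hπ, hπs, hloc⟩ := H V.1.1 V.1.2
        exact exists_finite_extension_near f V.1.1 V.1.2 π hloc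
  haveI : CompactSpace P := QuasiCompact.compactSpace_of_compactSpace q
  exact ⟨P, q, h1, h2, QFinEtDesc.lfp_of_noetherian q, h3⟩

theorem sectionRefinable_finite_of_noetherian [IsNoetherian Y] (f : X ⟶ Y) [LocallyOfFinitePresentation f]
    [QuasiCompact f] [QuasiSeparated f] [LocallyQuasiFinite f] (hf : Subtr.UnivSSubtrusive f) :
    SectionRefinable @IsFinite f := by
  refine exists_finite_liftable f fun U hU => ?_
  haveI : IsAffine U.toScheme := hU
  obtain ⟨P, π, h1, h2, h3⟩ := exists_finite_liftable_affine (pullback.snd f U.ι)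
    (MorphismProperty.pullback_snd (P := MorphismProperty.universally _) f _ hf)
  refine ⟨P, π, h1, h2, fun z => ?_⟩
  obtain ⟨W, hW, s, hs⟩ := h3 z
  exact ⟨W, hW, s ≫ pullback.fst f U.ι, by rw [Category.assoc, pullback.condition, reassoc_of% hs]⟩

theorem sectionRefinable_finite_of_flat [IsNoetherian Y] (f : X ⟶ Y) [Flat f] [LocallyOfFinitePresentation f]
    [Surjective f] : SectionRefinable @IsFinite f := by
  refine exists_finite_liftable f fun U hU => ?_
  haveI : IsAffine U.toScheme := hU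
  obtain ⟨T, k, hT, hfl, hfp, hqf, hsu⟩ := QFCoverLib.exists_affine_qf (pullback.snd f U.ι)
  haveI : QuasiCompact (k ≫ pullback.snd f U.ι) := quasiCompact_of_compactSpace _
  haveI : QuasiSeparated (k ≫ pullback.snd f U.ι) := QuasiSeparated.of_quasiSeparatedSpace _
  obtain ⟨P, π, h1, h2, h3⟩ := exists_finite_liftable_affine (k ≫ pullback.snd f U.ι) (univSSubtrusive_of_flat _)
  refine ⟨P, π, h1, h2, fun z => ?_⟩
  obtain ⟨W, hW, s, hs⟩ := h3 z
  exact ⟨W, hW, s ≫ k ≫ pullback.fst f U.ι, by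
    rw [Category.assoc, Category.assoc, pullback.condition, reassoc_of% hs]⟩

theorem sectionRefinable_proper_of_properRefinable [IsNoetherian Y] {f : X ⟶ Y} (H : ProperRefinable f) :
    SectionRefinable @IsProper f := by
  obtain ⟨P, q, h1, h2, h3, T, t, m, hm, ht1, ht2, ht3, ht4, ht5⟩ := H
  haveI : CompactSpace P := QuasiCompact.compactSpace_of_compactSpace q
  haveI : IsLocallyNoetherian P := LocallyOfFiniteType.isLocallyNoetherian q
  haveI : IsNoetherian P := ⟨⟩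
  obtain ⟨P', q', g1, g2, g3, g4⟩ := sectionRefinable_finite_of_flat t
  haveI : IsFinite q' := g1
  refine ⟨P', q' ≫ q, inferInstance, inferInstance, inferInstance, fun z => ?_⟩
  obtain ⟨W, hW, s, hs⟩ := g4 z
  exact ⟨W, hW, s ≫ m, by rw [Category.assoc, hm, reassoc_of% hs]⟩

theorem sectionRefinable_proper_of_noetherian [IsNoetherian Y] (f : X ⟶ Y) [LocallyOfFinitePresentation f]
    [QuasiCompact f] [QuasiSeparated f] (hf : Subtr.UnivSSubtrusive f) : SectionRefinable @IsProper f :=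
  sectionRefinable_proper_of_properRefinable (properRefinable_of_noetherian f hf)

theorem isNoetherian_subring {A : Type u} [CommRing A] {A₁ : Subalgebra ℤ A} (h : A₁.FG) :
    IsNoetherian (Spec (CommRingCat.of A₁)) := by
  haveI : Algebra.FiniteType ℤ A₁ := ⟨(Subalgebra.fg_top A₁).2 h⟩
  haveI : IsNoetherianRing A₁ := Algebra.FiniteType.isNoetherianRing ℤ A₁
  infer_instance

theorem isPullback_isoSpec [IsAffine Y] {A₁ : Subalgebra ℤ Γ(Y, ⊤)} {X₁ : Scheme.{u}} {f : X ⟶ Y} {g : X ⟶ X₁}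
    {f₁ : X₁ ⟶ Spec (CommRingCat.of A₁)}
    (h : IsPullback g (f ≫ Y.isoSpec.hom) f₁ (Spec.map (CommRingCat.ofHom A₁.val.toRingHom))) :
    IsPullback g f f₁ (Y.isoSpec.hom ≫ Spec.map (CommRingCat.ofHom A₁.val.toRingHom)) :=
  IsPullback.of_iso h (Iso.refl X) (Iso.refl X₁) Y.isoSpec.symm (Iso.refl _) (by simp) (by simp) (by simp) (by simp)

theorem sectionRefinable_proper_of_affine [IsAffine Y] (f : X ⟶ Y) [LocallyOfFinitePresentation f]
    [QuasiCompact f] [QuasiSeparated f] (hf : Subtr.UnivSSubtrusive f) : SectionRefinable @IsProper f := by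
  have hf' : Subtr.UnivSSubtrusive (f ≫ Y.isoSpec.hom) :=
    (MorphismProperty.cancel_right_of_respectsIso (MorphismProperty.universally _) f Y.isoSpec.hom).2 hf
  obtain ⟨A₁, X₁, f₁, g, hfg, hpb, -, -, -, H⟩ := exists_model_properRefinable Γ(Y, ⊤) (f ≫ Y.isoSpec.hom) hf'
  haveI := isNoetherian_subring hfg
  exact (sectionRefinable_proper_of_properRefinable H).of_isPullback (isPullback_isoSpec hpb)

/-- A quasi-finite model over a finitely generated subring. -/
theorem exists_model_quasiFinite (A : Type u) [CommRing A] {X : Scheme.{u}} (f : X ⟶ Spec (CommRingCat.of A))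
    [LocallyOfFinitePresentation f] [QuasiCompact f] [QuasiSeparated f] [LocallyQuasiFinite f]
    (hf : Subtr.UnivSSubtrusive f) :
    ∃ (A₂ : Subalgebra ℤ A) (X₂ : Scheme.{u}) (f₂ : X₂ ⟶ Spec (CommRingCat.of A₂)) (g : X ⟶ X₂),
      A₂.FG ∧ IsPullback g f f₂ (Spec.map (CommRingCat.ofHom A₂.val.toRingHom)) ∧
      LocallyOfFinitePresentation f₂ ∧ QuasiCompact f₂ ∧ QuasiSeparated f₂ ∧ LocallyQuasiFinite f₂ ∧
      Subtr.UnivSSubtrusive f₂ := by
  obtain ⟨A₁, X₁, f₁, g, hfg, hpb, hl, hqc, hqs, H⟩ := exists_model_properRefinable A f hf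
  haveI : IsDirectedOrder (FPModelLib.ZIdx (CommRingCat.of A)) :=
    ⟨fun S T => ⟨⟨S.1 ⊔ T.1, S.2.sup T.2⟩, le_sup_left (b := T.1), le_sup_right (a := S.1)⟩⟩
  haveI : Nonempty (FPModelLib.ZIdx (CommRingCat.of A)) := ⟨⟨⊥, Subalgebra.fg_bot⟩⟩
  haveI : IsFiltered (FPModelLib.ZIdx (CommRingCat.of A)) := isFiltered_of_directed_le_nonempty _
  let D := FPModelLib.zSys (CommRingCat.of A)
  let c := FPModelLib.zCone (CommRingCat.of A)
  let i₀ : (FPModelLib.ZIdx (CommRingCat.of A))ᵒᵖ := op ⟨A₁, hfg⟩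
  let f₁' : X₁ ⟶ D.obj i₀ := f₁
  let f' : X ⟶ c.pt := f
  haveI : LocallyQuasiFinite f' := ‹LocallyQuasiFinite f›
  haveI : LocallyOfFinitePresentation f₁' := hl
  haveI : QuasiCompact f₁' := hqc
  haveI : QuasiSeparated f₁' := hqs
  obtain ⟨i, φ, Xi, Yi, fi, gi, pY, pX, hY, hX, hqf⟩ := Groth.Agent.S2583.result D c
    (FPModelLib.isLimitZCone (CommRingCat.of A)) i₀ f₁' (𝟙 _) f' (𝟙 c.pt) (c.π.app i₀) g
    (IsPullback.of_vert_isIso ⟨by simp⟩) hpb
  haveI : IsIso gi := hY.isIso_snd_of_isIso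
  let f₂ : Xi ⟶ D.obj i := fi ≫ gi
  have hX' : IsPullback pX f₂ f₁' (D.map φ) :=
    IsPullback.of_iso hX (Iso.refl _) (Iso.refl _) (asIso gi) (Iso.refl _) (by simp) (by simp [f₂]) (by simp)
      (by simpa using hY.w)
  let g₂ : X ⟶ Xi := hX'.lift g (f' ≫ c.π.app i) (by rw [Category.assoc, c.w φ]; exact hpb.w)
  have hpb₂ : IsPullback g₂ f' f₂ (c.π.app i) :=
    IsPullback.of_right (by rw [hX'.lift_fst, c.w φ]; exact hpb) (hX'.lift_snd _ _ _) hX'
  refine ⟨i.unop.1, Xi, f₂, g₂, i.unop.2, hpb₂, MorphismProperty.of_isPullback hX' hl,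
    MorphismProperty.of_isPullback hX' hqc, MorphismProperty.of_isPullback hX' hqs,
    inferInstanceAs (LocallyQuasiFinite (fi ≫ gi)), univSSubtrusive_of_properRefinable (H.of_isPullback hX')⟩

theorem sectionRefinable_finite_of_affine [IsAffine Y] (f : X ⟶ Y) [LocallyOfFinitePresentation f]
    [QuasiCompact f] [QuasiSeparated f] [LocallyQuasiFinite f] (hf : Subtr.UnivSSubtrusive f) :
    SectionRefinable @IsFinite f := by
  have hf' : Subtr.UnivSSubtrusive (f ≫ Y.isoSpec.hom) :=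
    (MorphismProperty.cancel_right_of_respectsIso (MorphismProperty.universally _) f Y.isoSpec.hom).2 hf
  obtain ⟨A₂, X₂, f₂, g, hfg, hpb, hl, hqc, hqs, hqf, hst⟩ :=
    exists_model_quasiFinite Γ(Y, ⊤) (f ≫ Y.isoSpec.hom) hf'
  haveI := isNoetherian_subring hfg
  exact (sectionRefinable_finite_of_noetherian f₂ hst).of_isPullback (isPullback_isoSpec hpb)

/-- Assemble local sections into an open cover. -/
theorem exists_openCover_of_sections {P : Scheme.{u}} [CompactSpace P] [QuasiSeparatedSpace P] (f : X ⟶ Y)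
    (q : P ⟶ Y) (H : ∀ z : P, ∃ W : P.Opens, z ∈ W ∧ Liftable f (W.ι ≫ q)) :
    ∃ (X' : Scheme.{u}) (h : X' ⟶ X) (p : X' ⟶ P), h ≫ f = p ≫ q ∧ Surjective p ∧ QuasiCompact p ∧
      QuasiSeparated p ∧ ∀ x : X', ∃ U : X'.Opens, x ∈ U ∧ IsOpenImmersion (U.ι ≫ p) := by
  classical
  have hloc : ∀ z : P, ∃ O : P.Opens, z ∈ O ∧ IsAffine (O : Scheme.{u}) ∧ Liftable f (O.ι ≫ q) := fun z => by
    obtain ⟨W, hz, s, hs⟩ := H z
    obtain ⟨O, hO, hzO, hOW⟩ := exists_isAffineOpen_mem_and_subset (X := P) (x := z) (U := W) hz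
    exact ⟨O, hzO, hO, P.homOfLE hOW ≫ s, by rw [Category.assoc, hs]; simp⟩
  choose O hzO hOa hOl using hloc
  obtain ⟨t, ht⟩ := isCompact_univ.elim_finite_subcover (fun z : P => (O z : Set P)) (fun z => (O z).isOpen)
    fun z _ => Set.mem_iUnion.2 ⟨z, hzO z⟩
  choose s hs using fun z : t => hOl z.1
  let F : t → Scheme.{u} := fun z => (O z.1 : Scheme.{u})
  haveI : ∀ z, IsAffine (F z) := fun z => hOa z.1
  haveI : IsAffine (∐ F) := inferInstance
  let d : ∐ F ⟶ P := Limits.Sigma.desc fun z : t => (O z.1).ι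
  refine ⟨∐ F, Limits.Sigma.desc s, d, ?_, ⟨fun z => ?_⟩, quasiCompact_of_compactSpace d,
    QuasiSeparated.of_quasiSeparatedSpace d, fun x => ?_⟩
  · exact Sigma.hom_ext _ _ fun z => by simp [d, hs z]
  · obtain ⟨w, hw, hzw⟩ := Set.mem_iUnion₂.1 (ht (Set.mem_univ z))
    exact ⟨Sigma.ι F ⟨w, hw⟩ ⟨z, hzw⟩, by rw [← Scheme.Hom.comp_apply, Sigma.ι_desc]; rfl⟩
  · obtain ⟨z, y, rfl⟩ := (sigmaOpenCover F).exists_eq x
    refine ⟨(Sigma.ι F z).opensRange, ⟨y, rfl⟩, ?_⟩
    rw [← Scheme.Hom.isoOpensRange_inv_comp (Sigma.ι F z), Category.assoc, Sigma.ι_desc]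
    infer_instance

theorem exists_refinement_of_sectionRefinable {Pp : MorphismProperty Scheme.{u}} {f : X ⟶ Y}
    (hP : ∀ {P : Scheme.{u}} (q : P ⟶ Y), Pp q → CompactSpace P ∧ QuasiSeparatedSpace P)
    (H : SectionRefinable Pp f) :
    ∃ (X' Y' : Scheme.{u}) (h : X' ⟶ X) (p : X' ⟶ Y') (q : Y' ⟶ Y), h ≫ f = p ≫ q ∧
      Surjective p ∧ QuasiCompact p ∧ QuasiSeparated p ∧
      (∀ x : X', ∃ U : X'.Opens, x ∈ U ∧ IsOpenImmersion (U.ι ≫ p)) ∧
      Pp q ∧ Surjective q ∧ LocallyOfFinitePresentation q := by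
  obtain ⟨P, q, h1, h2, h3, h4⟩ := H
  obtain ⟨_, _⟩ := hP q h1
  obtain ⟨X', h, p, e, g1, g2, g3, g4⟩ := exists_openCover_of_sections f q h4
  exact ⟨X', P, h, p, q, e, g1, g2, g3, g4, h1, h2, h3⟩

end Groth.Agent.SubtrRefineLib
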