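import Groth.Agent.ValEtDescLib.Modification

/-! A proper surjective modification of an integral scheme, adapted to charts over one affine open. -/

set_option autoImplicit false
set_option linter.style.haveILetI false
set_option backward.isDefEq.respectTransparency false
set_option backward.isDefEq.respectTransparency.types false

universe u
open CategoryTheory CategoryTheory.Limits AlgebraicGeometry IsLocalRing
open Groth.Agent.BlowChartLib Groth.Agent.BlowExistsLib Groth.Agent.ValEtDescLib

noncomputable section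

namespace Groth.Agent.SubtrRefineLib

theorem exists_idealSheaf_extend {X : Scheme.{u}} [QuasiSeparatedSpace X] (U : X.affineOpens) (I : Ideal Γ(X, U.1)) :
    ∃ 𝓘 : X.IdealSheafData, 𝓘.ideal U = I := by
  let g : Spec (CommRingCat.of (Γ(X, U.1) ⧸ I)) ⟶ X :=
    Spec.map (CommRingCat.ofHom (Ideal.Quotient.mk I)) ≫ U.2.fromSpec
  haveI : QuasiCompact g := quasiCompact_of_compactSpace g
  refine ⟨g.ker, ?_⟩
  rw [Scheme.Hom.ker_apply]
  have hpre : g ⁻¹ᵁ U.1 = ⊤ := by
    simp [g, Scheme.Hom.comp_preimage, IsAffineOpen.fromSpec_preimage_self]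
  have h : g.appLE U.1 ⊤ hpre.ge ≫ (Scheme.ΓSpecIso _).hom = CommRingCat.ofHom (Ideal.Quotient.mk I) := by
    have h1 : U.2.fromSpec.appLE U.1 ⊤ U.2.fromSpec_preimage_self.ge = (Scheme.ΓSpecIso Γ(X, U.1)).inv := by
      rw [Scheme.Hom.appLE, IsAffineOpen.fromSpec_app_self, Category.assoc, ← Functor.map_comp]
      simp
    rw [← Scheme.Hom.appLE_comp_appLE _ U.2.fromSpec (U := U.1) (V := ⊤) (W := ⊤) U.2.fromSpec_preimage_self.ge le_rfl, h1,
      show (Spec.map (CommRingCat.ofHom (Ideal.Quotient.mk I))).appLE ⊤ ⊤ le_rfl =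
        (Spec.map (CommRingCat.ofHom (Ideal.Quotient.mk I))).appTop by simp [Scheme.Hom.appLE],
      ← Scheme.ΓSpecIso_inv_naturality]
    simp
  ext x
  rw [RingHom.mem_ker, ← Ideal.Quotient.eq_zero_iff_mem]
  rw [show Ideal.Quotient.mk I x = (g.appLE U.1 ⊤ hpre.ge ≫ (Scheme.ΓSpecIso _).hom).hom x by rw [h]; rfl]
  haveI : IsIso ((Spec (CommRingCat.of (Γ(X, U.1) ⧸ I))).presheaf.map (homOfLE hpre.ge).op) := by
    rw [Subsingleton.elim (homOfLE hpre.ge) (eqToHom hpre.symm)]; infer_instance
  have hj : Function.Injective ((Spec (CommRingCat.of (Γ(X, U.1) ⧸ I))).presheaf.map (homOfLE hpre.ge).op ≫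
      (Scheme.ΓSpecIso _).hom).hom := (ConcreteCategory.bijective_of_isIso _).1
  simp only [Scheme.Hom.appLE, Category.assoc, CommRingCat.hom_comp (g.app U.1), RingHom.comp_apply]
  exact ⟨fun hx => by rw [hx]; exact map_zero _, fun hx => hj (hx.trans (map_zero _).symm)⟩

variable {A : Type u} [CommRing A]

theorem exists_modification_open {X : Scheme.{u}} [IsIntegral X] [IsLocallyNoetherian X] [CompactSpace X]
    (U : X.affineOpens) (θ : CommRingCat.of A ⟶ Γ(X, U.1)) (cs : Finset (Chart A))
    (H : ∀ (K : Type u) [Field K] (ψ : A →+* K) (O : ValuationSubring K), (∀ x, ψ x ∈ O) → ∃ c ∈ cs, c.Has ψ O) :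
    ∃ (P : Scheme.{u}) (b : P ⟶ X), IsProper b ∧ Surjective b ∧
      ∀ w : P, b w ∈ U.1 → ∃ (W : Scheme.{u}) (j : W ⟶ P) (_ : IsOpenImmersion j), w ∈ Set.range j ∧
        ∃ c ∈ cs, ∃ (l : W ⟶ Spec Γ(X, U.1)) (k : W ⟶ Spec (CommRingCat.of c.Ring)),
          k ≫ c.toBase = l ≫ Spec.map θ ∧ l ≫ U.2.fromSpec = j ≫ b := by
  classical
  rcases Set.eq_empty_or_nonempty (U.1 : Set X) with hU | hU
  · exact ⟨X, 𝟙 X, inferInstance, inferInstance, fun w hw => (Set.eq_empty_iff_forall_notMem.1 hU w hw).elim⟩
  haveI : Nonempty U.1 := hU.to_subtype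
  let R := Γ(X, U.1)
  haveI : IsDomain R := inferInstance
  let K := FractionRing R
  let J := {c : Chart A // c ∈ cs ∧ θ.hom c.den ≠ 0}
  haveI : Fintype J := Fintype.ofFinset (cs.filter fun c => θ.hom c.den ≠ 0) fun c => by simp; rfl
  let T : J → Set R := fun c => insert (θ.hom c.1.den) (Set.range fun i => θ.hom (c.1.num i))
  let gens : Set R := {a | a ≠ 0 ∧ ∃ g : J → R, (∀ c, g c ∈ T c) ∧ ∏ c, g c = a}
  obtain ⟨𝓘, hI⟩ := exists_idealSheaf_extend U (Ideal.span gens)
  have hne : ∃ a, a ∈ gens := ⟨_, Finset.prod_ne_zero_iff.2 fun c _ => c.2.2,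
    fun c : J => θ.hom c.1.den, fun c => Set.mem_insert _ _, rfl⟩
  obtain ⟨P, b, hb⟩ := BlowExistsLib.exists_isBlowUp 𝓘
  have hft : BlowUp.IsFiniteTypeIdeal 𝓘 := fun V => by
    haveI : IsNoetherianRing Γ(X, V.1) := IsLocallyNoetherian.component_noetherian V
    exact IsNoetherian.noetherian _
  haveI : IsProper b := isProper_of_FG hb hft
  have hinj : ∀ a ∈ gens, Function.Injective (algebraMap R (ChartAlg 𝓘 U a)) := fun a ha x y hxy => by
    refine IsLocalization.injective (Localization.Away a) (M := Submonoid.powers a) ?_ (congrArg Subtype.val hxy)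
    exact Submonoid.powers_le.2 (mem_nonZeroDivisors_of_ne_zero ha.1)
  refine ⟨P, b, inferInstance, ⟨fun x => ?_⟩, fun w hwU => ?_⟩
  · obtain ⟨a, ha⟩ := hne
    have hmem : a ∈ 𝓘.ideal U := hI.ge (Ideal.subset_span ha)
    have hd : DenseRange (chartMap 𝓘 U a) := by
      have h1 : DenseRange (Spec.map (CommRingCat.ofHom (algebraMap R (ChartAlg 𝓘 U a)))) :=
        (PrimeSpectrum.denseRange_comap_iff_ker_le_nilRadical _).2
          (((RingHom.injective_iff_ker_eq_bot _).1 (hinj a ha)).trans_le bot_le)
      have h2 : DenseRange U.2.fromSpec := by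
        rw [DenseRange, IsAffineOpen.range_fromSpec]
        exact U.1.isOpen.dense hU
      exact h2.comp h1 U.2.fromSpec.continuous
    have hd' : DenseRange b := by
      refine Dense.mono ?_ hd
      rintro _ ⟨z, rfl⟩
      exact ⟨emb hb hmem z, by rw [← Scheme.Hom.comp_apply, emb_comp]⟩
    have : Set.range b = Set.univ := b.isClosedMap.isClosed_range.closure_eq.symm.trans hd'.closure_range
    obtain ⟨w, hw⟩ := this.ge (Set.mem_univ x)
    exact ⟨w, hw⟩
  · obtain ⟨a, hag, hw⟩ := exists_mem_chartOpen hb.1 (U := U) gens hI.symm w hwU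
    have hmem : a ∈ 𝓘.ideal U := hI.ge (Ideal.subset_span hag)
    rw [← opensRange_emb hb hmem] at hw
    obtain ⟨z, rfl⟩ := hw
    obtain ⟨ha, g, hg, hga⟩ := hag
    let B := ChartAlg 𝓘 U a
    have hu : IsUnit (algebraMap R K a) := isUnit_iff_ne_zero.2 fun e =>
      ha (IsFractionRing.injective R K (e.trans (map_zero _).symm))
    let L : Localization.Away a →+* K := IsLocalization.Away.lift (S := Localization.Away a) a hu
    have hL : ∀ r, L (algebraMap R _ r) = algebraMap R K r := IsLocalization.Away.lift_eq a hu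
    have hLinj : Function.Injective L := (injective_iff_map_eq_zero L).2 fun x hx => by
      obtain ⟨r, s, rfl⟩ := IsLocalization.exists_mk'_eq (Submonoid.powers a) x
      have h1 : L (IsLocalization.mk' (Localization.Away a) r s) * algebraMap R K s = algebraMap R K r := by
        rw [← hL s, ← map_mul, IsLocalization.mk'_spec, hL]
      rw [hx, zero_mul] at h1
      rw [IsFractionRing.injective R K (h1.symm.trans (map_zero _).symm), IsLocalization.mk'_zero]
    let ι : B →+* K := L.comp (Subalgebra.val _).toRingHom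
    have hιinj : Function.Injective ι := hLinj.comp Subtype.val_injective
    haveI : IsDomain B := hιinj.isDomain ι
    let p : Ideal B := z.asIdeal
    haveI : p.IsPrime := z.isPrime
    let φ : Localization.AtPrime p →+* K := IsLocalization.lift (M := p.primeCompl) (g := ι) fun y =>
      isUnit_iff_ne_zero.2 fun e => y.2 (by
        rw [hιinj (e.trans (map_zero ι).symm)]
        exact p.zero_mem)
    obtain ⟨O, hO, hloc⟩ := IsLocalRing.exists_factor_valuationRing (R := Localization.AtPrime p) φ
    have hφ : ∀ y, φ (algebraMap B _ y) = ι y := IsLocalization.lift_eq _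
    have hιO : ∀ y, ι y ∈ O := fun y => hφ y ▸ hO _
    have hnp : ∀ y, ∀ k ∈ O, ι y * k = 1 → y ∉ p := fun y k hk hyk hy => by
      have h1 : IsUnit ((φ.codRestrict O.toSubring hO) (algebraMap B _ y)) :=
        IsUnit.of_mul_eq_one (⟨k, hk⟩ : O) (Subtype.ext (show φ (algebraMap B _ y) * k = 1 by rw [hφ, hyk]))
      exact (IsLocalization.AtPrime.isUnit_to_map_iff (Localization.AtPrime p) p y).1
        (isUnit_of_map_unit (φ.codRestrict O.toSubring hO) _ h1) hy
    let ψ : A →+* K := (algebraMap R K).comp θ.hom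
    have hιR : ∀ r, ι (algebraMap R B r) = algebraMap R K r := hL
    obtain ⟨c, hc, hden, hnum, hrels⟩ := H K ψ O fun x => by
      show algebraMap R K (θ.hom x) ∈ O
      rw [← hιR]
      exact hιO _
    have hdenR : θ.hom c.den ≠ 0 := fun e => hden ((congrArg (algebraMap R K) e).trans (map_zero _))
    let j₀ : J := ⟨c, hc, hdenR⟩
    have hupd : ∀ x ∈ T j₀, ∏ i, Function.update g j₀ x i ∈ 𝓘.ideal U := fun x hx => by
      rw [hI]
      by_cases h0 : ∏ i, Function.update g j₀ x i = 0
      · rw [h0]; exact Submodule.zero_mem _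
      · exact Ideal.subset_span ⟨h0, _, fun i => by
          by_cases hi : i = j₀
          · subst hi; rwa [Function.update_self]
          · rw [Function.update_of_ne hi]; exact hg i, rfl⟩
    have hfrac : ∀ (x : R) (hx : x ∈ T j₀),
        ι (frac (a := a) _ (hupd x hx)) * algebraMap R K (g j₀) = algebraMap R K x := fun x hx => by
      have h1 := congrArg ι (frac_mul (a := a) _ (hupd x hx))
      rw [map_mul, hιR, hιR] at h1
      generalize ι (frac (a := a) _ (hupd x hx)) = φx at h1 ⊢
      rw [Finset.prod_update_of_mem (Finset.mem_univ j₀), map_mul] at h1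
      have ha' : algebraMap R K a = algebraMap R K (∏ i ∈ Finset.univ.erase j₀, g i) * algebraMap R K (g j₀) := by
        rw [← map_mul, Finset.prod_erase_mul _ _ (Finset.mem_univ j₀), hga]
      rw [ha', Finset.sdiff_singleton_eq_erase] at h1
      have hne' : algebraMap R K (∏ i ∈ Finset.univ.erase j₀, g i) ≠ 0 := fun e => by
        refine ha ?_
        rw [← hga, ← Finset.prod_erase_mul _ _ (Finset.mem_univ j₀),
          IsFractionRing.injective R K (e.trans (map_zero _).symm), zero_mul]
      apply mul_left_cancel₀ hne'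
      linear_combination h1
    let e : B := frac (a := a) _ (hupd _ (Set.mem_insert _ _))
    have hgne : algebraMap R K (g j₀) ≠ 0 := fun e' => ha (hga ▸
      Finset.prod_eq_zero (Finset.mem_univ j₀) (IsFractionRing.injective R K (e'.trans (map_zero _).symm)))
    have he : ι e = ψ c.den / algebraMap R K (g j₀) := by
      rw [eq_div_iff hgne]
      exact hfrac (θ.hom c.den) (Set.mem_insert _ _)
    have hep : e ∉ p := by
      have hk : algebraMap R K (g j₀) / ψ c.den ∈ O := by
        rcases hg j₀ with h | ⟨i, hi⟩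
        · rw [h, show algebraMap R K (θ.hom c.den) = ψ c.den from rfl, div_self hden]
          exact O.one_mem
        · rw [← hi]
          exact hnum i
      refine hnp e _ hk ?_
      rw [he, div_mul_div_comm, mul_comm (algebraMap R K (g j₀)) (ψ c.den), div_self (mul_ne_zero hden hgne)]
    let B' := Localization.Away e
    let t : Fin c.n → B' := fun i =>
      algebraMap B B' (frac (a := a) _ (hupd _ (Set.mem_insert_of_mem _ ⟨i, rfl⟩))) *
        IsLocalization.Away.invSelf e
    let φA : A →+* B' := (algebraMap B B').comp ((algebraMap R B).comp θ.hom)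
    have hue : IsUnit (ι e) := isUnit_iff_ne_zero.2 fun h => hep (by
      rw [hιinj (h.trans (map_zero ι).symm)]; exact p.zero_mem)
    let μ : B' →+* K := IsLocalization.Away.lift (S := B') e hue
    have hμ : ∀ y, μ (algebraMap B B' y) = ι y := IsLocalization.Away.lift_eq e hue
    have hμinj : Function.Injective μ := (injective_iff_map_eq_zero μ).2 fun x hx => by
      obtain ⟨r, s, rfl⟩ := IsLocalization.exists_mk'_eq (Submonoid.powers e) x
      have h1 : μ (IsLocalization.mk' B' r s) * ι s = ι r := by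
        rw [← hμ s, ← map_mul, IsLocalization.mk'_spec, hμ]
      rw [hx, zero_mul] at h1
      rw [hιinj (h1.symm.trans (map_zero ι).symm), IsLocalization.mk'_zero]
    have hμt : ∀ i, μ (t i) = ψ (c.num i) / ψ c.den := fun i => by
      have h1 : μ (IsLocalization.Away.invSelf e) = (ι e)⁻¹ := by
        refine eq_inv_of_mul_eq_one_right ?_
        rw [← hμ e, ← map_mul, IsLocalization.Away.mul_invSelf, map_one]
      have h2 : ι (frac (a := a) _ (hupd _ (Set.mem_insert_of_mem _ ⟨i, rfl⟩))) =
          ψ (c.num i) / algebraMap R K (g j₀) := (eq_div_iff hgne).2 (hfrac (θ.hom (c.num i)) (Set.mem_insert_of_mem _ ⟨i, rfl⟩))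
      simp only [t, map_mul, hμ, h1, h2, he]
      rw [inv_div, div_mul_div_cancel₀ hgne]
    have hrel : ∀ r ∈ c.rels, MvPolynomial.eval₂ φA t r = 0 := fun r hr => by
      apply hμinj
      rw [map_zero, ← hrels r hr, MvPolynomial.eval₂_comp_left]
      congr 1
      · exact RingHom.ext fun x => (hμ _).trans (hιR _)
      · exact funext hμt
    let kk : c.Ring →+* B' := Ideal.Quotient.lift _ (MvPolynomial.eval₂Hom φA t) fun x hx =>
      (Ideal.span_le (I := RingHom.ker (MvPolynomial.eval₂Hom φA t))).2 (fun r hr => hrel r hr) hx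
    let j : Spec (CommRingCat.of B') ⟶ P :=
      Spec.map (CommRingCat.ofHom (algebraMap B B')) ≫ emb hb hmem
    haveI : IsOpenImmersion (Spec.map (CommRingCat.ofHom (algebraMap B B'))) :=
      IsOpenImmersion.of_isLocalization e
    refine ⟨_, j, inferInstance, ?_, c, hc,
      Spec.map (CommRingCat.ofHom (algebraMap B B')) ≫ Spec.map (CommRingCat.ofHom (algebraMap R B)),
      Spec.map (CommRingCat.ofHom kk), ?_, ?_⟩
    · obtain ⟨z', hz'⟩ : z ∈ Set.range (PrimeSpectrum.comap (algebraMap B B')) := by
        rw [PrimeSpectrum.localization_away_comap_range B' e]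
        exact hep
      exact ⟨z', congrArg (emb hb hmem) hz'⟩
    · rw [Chart.toBase, ← Spec.map_comp, ← Spec.map_comp, ← Spec.map_comp]
      exact congrArg Spec.map (CommRingCat.hom_ext (RingHom.ext fun x => MvPolynomial.eval₂Hom_C φA t x))
    · simp only [j, Category.assoc]
      rw [emb_comp, chartMap]

end Groth.Agent.SubtrRefineLib
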