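import Groth.Agent.SubtrRefineLib.Charts
import Groth.Agent.SubtrRefineLib.Modification
import Groth.Agent.DVRCrit.Local

/-! Gluing local properties by proper surjective morphisms; flat refinements over noetherian bases. -/

set_option autoImplicit false
set_option linter.style.haveILetI false
set_option backward.isDefEq.respectTransparency false
set_option backward.isDefEq.respectTransparency.types false

universe u
open CategoryTheory CategoryTheory.Limits AlgebraicGeometry TopologicalSpace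

noncomputable section

namespace Groth.Agent.SubtrRefineLib

open Groth.Agent.ValEtDescLib

/-- A property of maps to `Y` holds near every point of `P` over `U`. -/
def Near {Y P : Scheme.{u}} (Q : ∀ {W : Scheme.{u}}, (W ⟶ Y) → Prop) (q : P ⟶ Y) (U : Y.Opens) : Prop :=
  ∀ z : P, q z ∈ U → ∃ W : P.Opens, z ∈ W ∧ Q (W.ι ≫ q)

variable {Y : Scheme.{u}} {Q : ∀ {W : Scheme.{u}}, (W ⟶ Y) → Prop}
  (hQ : ∀ {W W' : Scheme.{u}} {k : W ⟶ Y}, Q k → ∀ (h : W' ⟶ W) {k' : W' ⟶ Y}, h ≫ k = k' → Q k')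

include hQ in
theorem Near.comp {P P' : Scheme.{u}} {q : P ⟶ Y} {U : Y.Opens} (H : Near Q q U) (h : P' ⟶ P) {q' : P' ⟶ Y}
    (e : h ≫ q = q') : Near Q q' U := fun z hz => by
  obtain ⟨W, hW, hWQ⟩ := H (h z) (by rwa [← Scheme.Hom.comp_apply, e])
  exact ⟨h ⁻¹ᵁ W, hW, hQ hWQ (h ∣_ W) (by rw [morphismRestrict_ι_assoc, e])⟩

include hQ in
theorem exists_near_all (Pp : MorphismProperty Scheme.{u}) [Pp.IsStableUnderBaseChange] [Pp.IsStableUnderComposition]
    [Pp.ContainsIdentities] {ι : Type*} [Finite ι] (U : ι → Y.Opens) (hU : ∀ y : Y, ∃ i, y ∈ U i)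
    (H : ∀ i, ∃ (P : Scheme.{u}) (q : P ⟶ Y), Pp q ∧ Surjective q ∧ Near Q q (U i)) :
    ∃ (P : Scheme.{u}) (q : P ⟶ Y), Pp q ∧ Surjective q ∧ ∀ z : P, ∃ W : P.Opens, z ∈ W ∧ Q (W.ι ≫ q) := by
  classical
  haveI := Fintype.ofFinite ι
  suffices key : ∀ s : Finset ι, ∃ (P : Scheme.{u}) (q : P ⟶ Y), Pp q ∧ Surjective q ∧ ∀ i ∈ s, Near Q q (U i) by
    obtain ⟨P, q, h1, h2, h3⟩ := key Finset.univ
    refine ⟨P, q, h1, h2, fun z => ?_⟩
    obtain ⟨i, hi⟩ := hU (q z)
    exact h3 i (Finset.mem_univ i) z hi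
  intro s
  induction s using Finset.induction with
  | empty => exact ⟨Y, 𝟙 Y, Pp.id_mem Y, inferInstance, fun i hi => absurd hi (Finset.notMem_empty i)⟩
  | insert i s _ ih =>
    obtain ⟨P, q, h1, h2, h3⟩ := ih
    obtain ⟨P', q', h1', h2', h3'⟩ := H i
    haveI := h2
    haveI := h2'
    refine ⟨pullback q q', pullback.fst q q' ≫ q, Pp.comp_mem _ _ (MorphismProperty.pullback_fst _ _ h1') h1,
      inferInstance, fun k hk => ?_⟩
    rcases Finset.mem_insert.1 hk with rfl | hk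
    · exact h3'.comp hQ (pullback.snd q q') pullback.condition.symm
    · exact (h3 k hk).comp hQ (pullback.fst q q') rfl

theorem flatRefinable_of_isPullback {X X₀ S S₀ P : Scheme.{u}} {g : X ⟶ X₀} {f : X ⟶ S} {f₀ : X₀ ⟶ S₀}
    {b : S ⟶ S₀} (hpb : IsPullback g f f₀ b) {k : P ⟶ S} (H : FlatRefinable f₀ (k ≫ b)) : FlatRefinable f k := by
  obtain ⟨T, t, m, hm, r⟩ := H
  exact ⟨T, t, hpb.lift m (t ≫ k) (by rw [hm, Category.assoc]), hpb.lift_snd _ _ _, r⟩

theorem isIntegral_component (Z : Closeds Y) (hZ : IsIrreducible (Z : Set Y)) :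
    IsIntegral (Scheme.IdealSheafData.vanishingIdeal Z).subscheme := by
  let I := Scheme.IdealSheafData.vanishingIdeal Z
  haveI := DVRCrit.isReduced_vanishingIdeal Z
  have hr : Set.range I.subschemeι = (Z : Set Y) := by
    rw [Scheme.IdealSheafData.range_subschemeι, Scheme.IdealSheafData.coe_support_vanishingIdeal]
  have hpre : IsPreirreducible (Set.univ : Set I.subscheme) := by
    intro u v hu hv hu' hv'
    obtain ⟨u', hu'o, rfl⟩ := I.subschemeι.isClosedEmbedding.isInducing.isOpen_iff.1 hu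
    obtain ⟨v', hv'o, rfl⟩ := I.subschemeι.isClosedEmbedding.isInducing.isOpen_iff.1 hv
    obtain ⟨a, -, ha⟩ := hu'
    obtain ⟨c, -, hc⟩ := hv'
    obtain ⟨z, hz, hzu, hzv⟩ := hZ.2 u' v' hu'o hv'o ⟨_, hr.le ⟨a, rfl⟩, ha⟩ ⟨_, hr.le ⟨c, rfl⟩, hc⟩
    obtain ⟨w, rfl⟩ := hr.ge hz
    exact ⟨w, trivial, hzu, hzv⟩
  haveI : Nonempty I.subscheme := by
    obtain ⟨z, hz⟩ := hZ.1
    obtain ⟨w, -⟩ := hr.ge hz
    exact ⟨w⟩
  haveI : PreirreducibleSpace I.subscheme := ⟨hpre⟩
  haveI : IrreducibleSpace I.subscheme := ⟨inferInstance⟩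
  exact isIntegral_of_irreducibleSpace_of_isReduced _

/-- Over a noetherian scheme a subtrusive morphism of finite presentation becomes locally flat refinable after a
proper surjective base change. -/
theorem exists_proper_flatRefinable [IsNoetherian Y] {X : Scheme.{u}} (f : X ⟶ Y) [LocallyOfFinitePresentation f]
    [QuasiCompact f] [QuasiSeparated f] (hf : Subtr.UnivSSubtrusive f) :
    ∃ (P : Scheme.{u}) (q : P ⟶ Y), IsProper q ∧ Surjective q ∧
      ∀ z : P, ∃ W : P.Opens, z ∈ W ∧ FlatRefinable f (W.ι ≫ q) := by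
  classical
  obtain ⟨t, ht⟩ := isCompact_univ.elim_finite_subcover (fun V : Y.affineOpens => ((V : Y.Opens) : Set Y))
    (fun V => V.1.isOpen) fun y _ => by
      obtain ⟨V, hV, hy, -⟩ := exists_isAffineOpen_mem_and_subset (X := Y) (x := y) (U := ⊤) trivial
      exact Set.mem_iUnion.2 ⟨⟨V, hV⟩, hy⟩
  refine exists_near_all (Q := fun {_} k => FlatRefinable f k) (fun H h _ e => H.of_comp h e) @IsProper
    (fun V : t => V.1.1) (fun y => by
      obtain ⟨V, hV, hy⟩ := Set.mem_iUnion₂.1 (ht (Set.mem_univ y))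
      exact ⟨⟨V, hV⟩, hy⟩) fun V => ?_
  obtain ⟨U, hUt⟩ := V
  haveI : LocallyOfFinitePresentation (pullback.snd f U.2.fromSpec) := inferInstance
  obtain ⟨A₁, X₁, f₁, g₁, cs, hfg, hpb, -, -, -, hgood, hcov⟩ := exists_charts_model Γ(Y, U.1)
    (pullback.snd f U.2.fromSpec) (MorphismProperty.pullback_snd (P := MorphismProperty.universally _) f _ hf)
  let Z := irreducibleComponents Y
  haveI : Finite Z := NoetherianSpace.finite_irreducibleComponents.to_subtype
  let Zc : Z → Closeds Y := fun q => ⟨q.1, isClosed_of_mem_irreducibleComponents _ q.2⟩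
  let I : Z → Y.IdealSheafData := fun q => Scheme.IdealSheafData.vanishingIdeal (Zc q)
  let i : ∀ q, (I q).subscheme ⟶ Y := fun q => (I q).subschemeι
  have key : ∀ q : Z, ∃ (P : Scheme.{u}) (b : P ⟶ (I q).subscheme), IsProper b ∧ Surjective b ∧
      Near (fun {_} k => FlatRefinable f k) (b ≫ i q) U.1 := by
    intro q
    haveI := isIntegral_component (Zc q) q.2.1
    haveI : IsLocallyNoetherian (I q).subscheme := LocallyOfFiniteType.isLocallyNoetherian (i q)
    haveI : CompactSpace (I q).subscheme := QuasiCompact.compactSpace_of_compactSpace (i q)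
    let U' : (I q).subscheme.affineOpens := ⟨i q ⁻¹ᵁ U.1, U.2.preimage _⟩
    let θ : CommRingCat.of A₁ ⟶ Γ((I q).subscheme, U'.1) := CommRingCat.ofHom A₁.val.toRingHom ≫ (i q).app U.1
    obtain ⟨P, b, h1, h2, h3⟩ := exists_modification_open U' θ cs hcov
    refine ⟨P, b, h1, h2, fun w hw => ?_⟩
    obtain ⟨W, j, hj, hwj, c, hc, l, k, hk, hl⟩ := h3 w (by rwa [Scheme.Hom.comp_apply] at hw)
    haveI := hj
    refine ⟨j.opensRange, hwj, ?_⟩
    have h4 : FlatRefinable (pullback.snd f U.2.fromSpec) (l ≫ Spec.map ((i q).app U.1)) := by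
      refine flatRefinable_of_isPullback hpb ((hgood c hc).of_comp k ?_)
      rw [hk, Category.assoc]
      exact congrArg (l ≫ ·) (Spec.map_comp _ _)
    refine (flatRefinable_of_pullback h4).of_comp j.isoOpensRange.inv ?_
    have h5 : Spec.map ((i q).app U.1) ≫ U.2.fromSpec = U'.2.fromSpec ≫ i q := by
      rw [← IsAffineOpen.SpecMap_appLE_fromSpec (i q) U.2 U'.2 le_rfl, Scheme.Hom.appLE_eq_app]
    rw [Category.assoc, h5, reassoc_of% hl, Scheme.Hom.isoOpensRange_inv_comp_assoc]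
  choose P b hprop hsurj hnear using key
  haveI : IsProper (Limits.Sigma.map b) := SchDesc.prop_sigmaMap @IsProper b hprop
  haveI : IsFinite (Limits.Sigma.desc i) := QFinEtDesc.isFinite_sigmaDesc' _ i fun q => inferInstance
  have hcomp : ∀ q, Sigma.ι P q ≫ Limits.Sigma.map b ≫ Limits.Sigma.desc i = b q ≫ i q := fun q => by simp
  refine ⟨∐ P, Limits.Sigma.map b ≫ Limits.Sigma.desc i, inferInstance, ⟨fun y => ?_⟩, fun w hw => ?_⟩
  · obtain ⟨q, hq, hyq⟩ : ∃ q, q ∈ Z ∧ y ∈ q :=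
      ⟨irreducibleComponent y, irreducibleComponent_mem_irreducibleComponents y, mem_irreducibleComponent⟩
    obtain ⟨y', hy'⟩ : y ∈ Set.range (i ⟨q, hq⟩) := by
      rw [Scheme.IdealSheafData.range_subschemeι, Scheme.IdealSheafData.coe_support_vanishingIdeal]
      exact hyq
    obtain ⟨w, rfl⟩ := (hsurj ⟨q, hq⟩).surj y'
    exact ⟨Sigma.ι P ⟨q, hq⟩ w, by rw [← Scheme.Hom.comp_apply, hcomp, Scheme.Hom.comp_apply]; exact hy'⟩
  · obtain ⟨q, z, rfl⟩ := (sigmaOpenCover P).exists_eq w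
    have hz : (b q ≫ i q) z ∈ U.1 := by
      rw [← hcomp q, Scheme.Hom.comp_apply]
      exact hw
    obtain ⟨W, hzW, hW⟩ := hnear q z hz
    refine ⟨Sigma.ι P q ''ᵁ W, ⟨z, hzW, rfl⟩, hW.of_comp ((Sigma.ι P q).isoImage W).inv ?_⟩
    rw [← hcomp q, reassoc_of% Scheme.Hom.isoImage_inv_ι]

end Groth.Agent.SubtrRefineLib
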