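import Groth.Agent.SubtrRefineLib.Descend
import Groth.Agent.AffLim.DescendBaseChange
import Mathlib.Topology.Spectral.ConstructibleTopology

/-! Lifts of a pair of points in all stages give a lift in the limit. -/

set_option autoImplicit false
set_option linter.style.haveILetI false
set_option backward.isDefEq.respectTransparency false
set_option backward.isDefEq.respectTransparency.types false

universe u
open CategoryTheory CategoryTheory.Limits AlgebraicGeometry TopologicalSpace Topology

noncomputable section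

namespace Groth.Agent.SubtrRefineLib

theorem isClopen_constructible {A : Type*} [TopologicalSpace A] [CompactSpace A] {s : Set A} (hs : IsCompact s)
    (ho : IsOpen s) : IsClopen ((WithTopology.ofTopology : WithConstructibleTopology A → A) ⁻¹' s) := by
  refine ⟨⟨WithConstructibleTopology.isOpen_iff.2 ?_⟩, WithConstructibleTopology.isOpen_iff.2 ?_⟩
  · exact IsCompact.isOpen_constructibleTopology_of_isClosed (s := sᶜ) (by rwa [compl_compl]) ho.isClosed_compl
  · exact IsCompact.isOpen_constructibleTopology_of_isOpen hs ho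

variable {A B : Scheme.{u}} [IsAffine A] [IsAffine B]

theorem isCompact_preimage_affine (h : A ⟶ B) (U : B.Opens) (hU : IsAffineOpen U) : IsCompact (h ⁻¹' (U : Set B)) :=
  (hU.preimage h).isCompact

/-- The fibre of a morphism of affine schemes is closed in the constructible topology. -/
theorem isClosed_fibre (h : A ⟶ B) (y : B) :
    IsClosed ((fun a : WithConstructibleTopology A => h a.ofTopology) ⁻¹' {y}) := by
  have e : (fun a : WithConstructibleTopology A => h a.ofTopology) ⁻¹' {y} =
      ⋂ U : B.affineOpens, {a : WithConstructibleTopology A | h a.ofTopology ∈ U.1 ↔ y ∈ U.1} := by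
    ext a
    simp only [Set.mem_iInter, Set.mem_preimage, Set.mem_singleton_iff, Set.mem_ofPred_eq]
    refine ⟨fun e U => by rw [e], fun H => inseparable_iff_eq.1
      ((IsTopologicalBasis.inseparable_iff B.isBasis_affineOpens).2 ?_)⟩
    rintro _ ⟨U, hU, rfl⟩
    exact H ⟨U, hU⟩
  rw [e]
  refine isClosed_iInter fun U => ?_
  obtain ⟨h1, h2⟩ := isClopen_constructible (isCompact_preimage_affine h U.1 U.2) (U.1.isOpen.preimage h.continuous)
  by_cases hy : y ∈ U.1
  · convert h1 using 1
    ext a
    simp [hy]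
  · convert h2.isClosed_compl using 1
    ext a
    simp [hy]

/-- Pairs of points with specializing images form a closed set for the constructible topology. -/
theorem isClosed_specializes (h : A ⟶ B) :
    IsClosed {p : WithConstructibleTopology A × WithConstructibleTopology A | h p.2.ofTopology ⤳ h p.1.ofTopology} := by
  have e : {p : WithConstructibleTopology A × WithConstructibleTopology A | h p.2.ofTopology ⤳ h p.1.ofTopology} =
      ⋂ U : B.affineOpens, {p | h p.1.ofTopology ∈ U.1 → h p.2.ofTopology ∈ U.1} := by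
    ext p
    simp only [Set.mem_iInter, Set.mem_ofPred_eq]
    refine ⟨fun e U hp => e.mem_open U.1.isOpen hp, fun H => specializes_iff_forall_open.2 fun s hs hp => ?_⟩
    obtain ⟨_, ⟨U, hU, rfl⟩, hpU, hUs⟩ := B.isBasis_affineOpens.exists_subset_of_mem_open hp hs
    exact hUs (H ⟨U, hU⟩ hpU)
  rw [e]
  refine isClosed_iInter fun U => ?_
  obtain ⟨h1, h2⟩ := isClopen_constructible (isCompact_preimage_affine h U.1 U.2) (U.1.isOpen.preimage h.continuous)
  have e2 : {p : WithConstructibleTopology A × WithConstructibleTopology A |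
      h p.1.ofTopology ∈ U.1 → h p.2.ofTopology ∈ U.1} =
      (Prod.fst ⁻¹' ((WithTopology.ofTopology : WithConstructibleTopology A → A) ⁻¹' (h ⁻¹' (U.1 : Set B))))ᶜ ∪
        Prod.snd ⁻¹' ((WithTopology.ofTopology : WithConstructibleTopology A → A) ⁻¹' (h ⁻¹' (U.1 : Set B))) := by
    ext p
    simp [imp_iff_not_or]
  rw [e2]
  exact ((h2.preimage continuous_fst).isClosed_compl).union (h1.preimage continuous_snd)

/-- A pair that lifts in all stages of a limit of affine schemes lifts in the limit. -/
theorem exists_pair_lift {J : Type u} [SmallCategory J] [IsCofiltered J] (E F : J ⥤ Scheme.{u}) (a : F ⟶ E)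
    (cE : Cone E) (cF : Cone F) (hcF : IsLimit cF) (aP : cF.pt ⟶ cE.pt)
    (hpb : ∀ k, IsPullback (cF.π.app k) aP (a.app k) (cE.π.app k)) [∀ k, IsAffine (F.obj k)] [∀ k, IsAffine (E.obj k)]
    [IsAffine cF.pt] [IsAffine cE.pt] (y y' : cE.pt)
    (H : ∀ k, ∃ x x' : F.obj k, x' ⤳ x ∧ a.app k x = cE.π.app k y ∧ a.app k x' = cE.π.app k y') :
    ∃ x x' : cF.pt, x' ⤳ x ∧ aP x = y ∧ aP x' = y' := by
  haveI : ∀ {i j : J} (h : i ⟶ j), IsAffineHom (F.map h) := fun h => inferInstance
  let W := WithConstructibleTopology cF.pt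
  haveI : Nonempty J := IsCofiltered.nonempty
  haveI : ∀ k : J, IsAffine (((Functor.const J).obj cF.pt).obj k) := fun _ => ‹IsAffine cF.pt›
  let C : J → Set (W × W) := fun k =>
    ((fun b : W => aP b.ofTopology) ⁻¹' {y}) ×ˢ ((fun b : W => aP b.ofTopology) ⁻¹' {y'}) ∩
      {p | cF.π.app k p.2.ofTopology ⤳ cF.π.app k p.1.ofTopology}
  have hcl : ∀ k, IsClosed (C k) := fun k =>
    ((isClosed_fibre aP y).prod (isClosed_fibre aP y')).inter (isClosed_specializes (cF.π.app k))
  have hne : ∀ k, (C k).Nonempty := fun k => by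
    obtain ⟨x, x', hx, e, e'⟩ := H k
    obtain ⟨w, hw₁, hw₂⟩ := Scheme.Pullback.exists_preimage_pullback (f := a.app k) (g := cE.π.app k) x y e
    obtain ⟨w', hw₁', hw₂'⟩ := Scheme.Pullback.exists_preimage_pullback (f := a.app k) (g := cE.π.app k) x' y' e'
    let i := (hpb k).isoPullback.inv
    refine ⟨(WithTopology.toTopology _ (i w), WithTopology.toTopology _ (i w')), ⟨?_, ?_⟩, ?_⟩
    · show aP (i w) = y
      refine (Scheme.Hom.comp_apply i aP w).symm.trans ?_
      rw [(hpb k).isoPullback_inv_snd]
      exact hw₂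
    · show aP (i w') = y'
      refine (Scheme.Hom.comp_apply i aP w').symm.trans ?_
      rw [(hpb k).isoPullback_inv_snd]
      exact hw₂'
    · show cF.π.app k (i w') ⤳ cF.π.app k (i w)
      rw [← Scheme.Hom.comp_apply, ← Scheme.Hom.comp_apply, (hpb k).isoPullback_inv_fst, hw₁, hw₁']
      exact hx
  have hdir : Directed (· ⊇ ·) C := fun k l => by
    refine ⟨IsCofiltered.min k l, fun p hp => ⟨hp.1, ?_⟩, fun p hp => ⟨hp.1, ?_⟩⟩
    · show cF.π.app k p.2.ofTopology ⤳ cF.π.app k p.1.ofTopology
      rw [← cF.w (IsCofiltered.minToLeft k l), Scheme.Hom.comp_apply, Scheme.Hom.comp_apply]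
      exact hp.2.map (F.map _).continuous
    · show cF.π.app l p.2.ofTopology ⤳ cF.π.app l p.1.ofTopology
      rw [← cF.w (IsCofiltered.minToRight k l), Scheme.Hom.comp_apply, Scheme.Hom.comp_apply]
      exact hp.2.map (F.map _).continuous
  obtain ⟨p, hp⟩ := IsCompact.nonempty_iInter_of_directed_nonempty_isCompact_isClosed C hdir hne
    (fun k => (hcl k).isCompact) hcl
  rw [Set.mem_iInter] at hp
  obtain ⟨k₀⟩ := ‹Nonempty J›
  refine ⟨p.1.ofTopology, p.2.ofTopology, ?_, (hp k₀).1.1, (hp k₀).1.2⟩
  refine specializes_iff_forall_open.2 fun s hs hps => ?_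
  obtain ⟨_, ⟨_, ⟨k, V, hV, rfl⟩, rfl⟩, hpV, hVs⟩ :=
    (isBasis_preimage_isAffineOpen F cF hcF).exists_subset_of_mem_open hps hs
  exact hVs ((hp k).2.mem_open V.isOpen hpV)

end Groth.Agent.SubtrRefineLib
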