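import Groth.Agent.SubtrRefineLib.Refinable
import Groth.Agent.FPModelLib.ZSys
import Groth.Agent.S0591

/-! Charts with flat refinements over a finitely generated subring. -/

set_option autoImplicit false
set_option linter.style.haveILetI false
set_option backward.isDefEq.respectTransparency false
set_option backward.isDefEq.respectTransparency.types false

universe u
open CategoryTheory CategoryTheory.Limits AlgebraicGeometry MvPolynomial

noncomputable section

namespace Groth.Agent.SubtrRefineLib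

open Groth.Agent.ValEtDescLib

theorem chart_map_has {A B : Type u} [CommRing A] [CommRing B] (c : Chart A) (j : A →+* B) {K : Type u} [Field K]
    (ψ : B →+* K) (O : ValuationSubring K) (h : c.Has (ψ.comp j) O) : (c.map j).Has ψ O := by
  classical
  obtain ⟨h1, h2, h3⟩ := h
  refine ⟨h1, h2, fun r hr => ?_⟩
  obtain ⟨r₀, hr₀, rfl⟩ := Finset.mem_image.1 hr
  exact (eval₂_map j _ ψ r₀).trans (h3 r₀ hr₀)

theorem chart_map_map {A B C : Type u} [CommRing A] [CommRing B] [CommRing C] (c : Chart A) (j : A →+* B)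
    (k : B →+* C) : (c.map j).map k = c.map (k.comp j) := by
  classical
  simp [Chart.map, Finset.image_image, Function.comp_def, MvPolynomial.map_map]

theorem mem_map_rels {A B : Type u} [CommRing A] [CommRing B] (c : Chart A) (j : A →+* B)
    {l : MvPolynomial (Fin c.n) A} (hl : l ∈ c.rels) : MvPolynomial.map j l ∈ (c.map j).rels := by
  classical
  exact Finset.mem_image_of_mem _ hl

theorem exists_lift_chart {A : Type u} [CommRing A] (A₂ : Subalgebra ℤ A) {n : ℕ}
    (rels : Finset (MvPolynomial (Fin n) A₂)) {σ : Type u} [Finite σ] (F : Finset (MvPolynomial σ A₂))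
    (v : σ → MvPolynomial (Fin n) A)
    (hv : ∀ r ∈ F, eval₂ (C.comp A₂.val.toRingHom) v r ∈
      Ideal.span (MvPolynomial.map A₂.val.toRingHom '' (rels : Set (MvPolynomial (Fin n) A₂)))) :
    ∃ s : Finset A, ∀ (B : Subalgebra ℤ A) (h : A₂ ≤ B), (↑s : Set A) ⊆ (B : Set A) →
      ∃ w : σ → MvPolynomial (Fin n) B, ∀ r ∈ F, eval₂ (C.comp (Subalgebra.inclusion h).toRingHom) w r ∈
        Ideal.span (MvPolynomial.map (Subalgebra.inclusion h).toRingHom '' (rels : Set (MvPolynomial (Fin n) A₂))) := by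
  classical
  haveI := Fintype.ofFinite σ
  have hrel : ∀ r : F, ∃ q : rels → MvPolynomial (Fin n) A,
      eval₂ (C.comp A₂.val.toRingHom) v r.1 = ∑ l, q l * MvPolynomial.map A₂.val.toRingHom l.1 := by
    intro r
    have h0 := hv r.1 r.2
    rw [show MvPolynomial.map A₂.val.toRingHom '' (rels : Set (MvPolynomial (Fin n) A₂)) =
      Set.range fun l : rels => MvPolynomial.map A₂.val.toRingHom l.1 by ext; simp,
      Ideal.mem_span_range_iff_exists_fun] at h0
    obtain ⟨q, hq⟩ := h0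
    exact ⟨q, hq.symm⟩
  choose q hq using hrel
  let coef : MvPolynomial (Fin n) A → Finset A := fun p => p.support.image p.coeff
  refine ⟨(Finset.univ.biUnion fun i => coef (v i)) ∪ Finset.univ.biUnion fun r => Finset.univ.biUnion fun l => coef (q r l),
    fun B h hs => ?_⟩
  have hmem : ∀ p : MvPolynomial (Fin n) A, (↑(coef p) : Set A) ⊆ B →
      ∃ p' : MvPolynomial (Fin n) B, MvPolynomial.map B.val.toRingHom p' = p := fun p hp => by
    refine MvPolynomial.mem_range_map_iff_coeffs_subset.2 ?_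
    intro a ha
    obtain ⟨d, hd, rfl⟩ := MvPolynomial.mem_coeffs_iff.1 ha
    exact ⟨⟨_, hp (Finset.mem_coe.2 (Finset.mem_image_of_mem _ hd))⟩, rfl⟩
  choose w hw using fun i => hmem (v i) (fun a ha => hs (Finset.mem_coe.2 (Finset.mem_union_left _
    (Finset.mem_biUnion.2 ⟨i, Finset.mem_univ _, ha⟩))))
  choose q' hq' using fun r l => hmem (q r l) (fun a ha => hs (Finset.mem_coe.2 (Finset.mem_union_right _
    (Finset.mem_biUnion.2 ⟨r, Finset.mem_univ _, Finset.mem_biUnion.2 ⟨l, Finset.mem_univ _, ha⟩⟩))))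
  refine ⟨w, fun r hr => ?_⟩
  have e : eval₂ (C.comp (Subalgebra.inclusion h).toRingHom) w r =
      ∑ l, q' ⟨r, hr⟩ l * MvPolynomial.map (Subalgebra.inclusion h).toRingHom l.1 := by
    refine MvPolynomial.map_injective B.val.toRingHom Subtype.val_injective ?_
    rw [eval₂_comp_left, map_sum]
    simp only [map_mul, hq', MvPolynomial.map_map]
    refine Eq.trans ?_ (hq ⟨r, hr⟩)
    congr 1
    · refine RingHom.ext fun a => ?_
      simp
    · exact funext hw
  rw [e]
  exact Ideal.sum_mem _ fun l _ => Ideal.mul_mem_left _ _ (Ideal.subset_span ⟨_, l.2, rfl⟩)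

theorem exists_stage_quotient {A A₂ : Type u} [CommRing A] [CommRing A₂] (ι : A₂ →+* A) {X₂ : Scheme.{u}}
    (f₂ : X₂ ⟶ Spec (CommRingCat.of A₂)) [LocallyOfFinitePresentation f₂] {n : ℕ}
    (rels : Finset (MvPolynomial (Fin n) A₂)) (ρA : Finset (MvPolynomial (Fin n) A))
    (hρA : (ρA : Set (MvPolynomial (Fin n) A)) = MvPolynomial.map ι '' (rels : Set (MvPolynomial (Fin n) A₂)))
    (H : FlatRefinable f₂
      (Spec.map (CommRingCat.ofHom (algebraMap A (MvPolynomial (Fin n) A ⧸ Ideal.span (ρA : Set (MvPolynomial (Fin n) A))))) ≫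
        Spec.map (CommRingCat.ofHom ι))) :
    ∃ (σ : Type u) (_ : Finite σ) (F : Finset (MvPolynomial σ A₂)) (v : σ → MvPolynomial (Fin n) A),
      (∀ r ∈ F, eval₂ (C.comp ι) v r ∈ Ideal.span (MvPolynomial.map ι '' (rels : Set (MvPolynomial (Fin n) A₂)))) ∧
      ∀ (B : Type u) [CommRing B] (j : A₂ →+* B) (ρB : Finset (MvPolynomial (Fin n) B)) (w : σ → MvPolynomial (Fin n) B),
        (∀ r ∈ F, eval₂ (C.comp j) w r ∈ Ideal.span (ρB : Set (MvPolynomial (Fin n) B))) →
        FlatRefinable f₂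
          (Spec.map (CommRingCat.ofHom (algebraMap B (MvPolynomial (Fin n) B ⧸ Ideal.span (ρB : Set (MvPolynomial (Fin n) B))))) ≫
            Spec.map (CommRingCat.ofHom j)) := by
  classical
  let I := Ideal.span (ρA : Set (MvPolynomial (Fin n) A))
  letI : Algebra A₂ (MvPolynomial (Fin n) A ⧸ I) :=
    ((algebraMap A (MvPolynomial (Fin n) A ⧸ I)).comp ι).toAlgebra
  obtain ⟨T, t, m, hm, hflat, hlfp, hsurj, hqc, hqs⟩ := H
  haveI : CompactSpace T := QuasiCompact.compactSpace_of_compactSpace t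
  haveI : QuasiSeparatedSpace T := quasiSeparatedSpace_of_quasiSeparated t
  obtain ⟨k, hk⟩ := exists_stage_flatRefinable (g := f₂) (fpSys A₂ (MvPolynomial (Fin n) A ⧸ I)) t m
    (by rw [hm, ← Spec.map_comp]; rfl)
  obtain ⟨i, rfl⟩ : ∃ i, k = Opposite.op i := ⟨k.unop, rfl⟩
  have hlift : ∀ v : i.s, ∃ P : MvPolynomial (Fin n) A, Ideal.Quotient.mk I P = v.1 :=
    fun v => Ideal.Quotient.mk_surjective v.1
  let P : i.s → MvPolynomial (Fin n) A := fun v => (hlift v).choose
  have hP : ∀ v, Ideal.Quotient.mk I (P v) = v.1 := fun v => (hlift v).choose_spec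
  refine ⟨i.s, inferInstance, i.F, P, fun r hr => ?_, fun B _ j ρB w hw => ?_⟩
  · rw [← hρA]
    refine Ideal.Quotient.eq_zero_iff_mem.1 ?_
    rw [eval₂_comp_left]
    refine Eq.trans ?_ (i.rel r hr)
    rw [MvPolynomial.aeval_def]
    congr 1
    exact funext hP
  let J := Ideal.span (ρB : Set (MvPolynomial (Fin n) B))
  let φ₀ : MvPolynomial i.s A₂ →+* MvPolynomial (Fin n) B ⧸ J :=
    (Ideal.Quotient.mk J).comp (eval₂Hom (C.comp j) w)
  let χ : i.ring →+* MvPolynomial (Fin n) B ⧸ J := Ideal.Quotient.lift _ φ₀ fun x hx =>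
    (Ideal.span_le (I := RingHom.ker φ₀)).2 (fun r hr => Ideal.Quotient.eq_zero_iff_mem.2 (hw r hr)) hx
  refine hk.of_comp (Spec.map (CommRingCat.ofHom χ)) ?_
  show Spec.map (CommRingCat.ofHom χ) ≫ Spec.map (CommRingCat.ofHom (algebraMap A₂ i.ring)) =
    Spec.map (CommRingCat.ofHom (algebraMap B (MvPolynomial (Fin n) B ⧸ J))) ≫ Spec.map (CommRingCat.ofHom j)
  rw [← Spec.map_comp, ← Spec.map_comp]
  refine congrArg Spec.map (CommRingCat.hom_ext (RingHom.ext fun a => ?_))
  show φ₀ (C a) = Ideal.Quotient.mk _ (C (j a))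
  simp [φ₀]

/-- A refinement over the chart of a ring is defined over the chart of a finitely generated subring. -/
theorem exists_stage_chart {A : Type u} [CommRing A] (A₂ : Subalgebra ℤ A) {X₂ : Scheme.{u}}
    (f₂ : X₂ ⟶ Spec (CommRingCat.of A₂)) [LocallyOfFinitePresentation f₂] (c : Chart A₂)
    (H : FlatRefinable f₂ ((c.map A₂.val.toRingHom).toBase ≫ Spec.map (CommRingCat.ofHom A₂.val.toRingHom))) :
    ∃ s : Finset A, ∀ (B : Subalgebra ℤ A) (h : A₂ ≤ B), (↑s : Set A) ⊆ (B : Set A) →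
      FlatRefinable f₂ ((c.map (Subalgebra.inclusion h).toRingHom).toBase ≫
        Spec.map (CommRingCat.ofHom (Subalgebra.inclusion h).toRingHom)) := by
  classical
  obtain ⟨σ, hσ, F, v, hv, hB'⟩ :=
    exists_stage_quotient A₂.val.toRingHom f₂ c.rels (c.map A₂.val.toRingHom).rels Finset.coe_image H
  obtain ⟨s, hs⟩ := exists_lift_chart A₂ c.rels F v hv
  refine ⟨s, fun B h hB => ?_⟩
  obtain ⟨w, hw⟩ := hs B h hB
  refine hB' B (Subalgebra.inclusion h).toRingHom (c.map (Subalgebra.inclusion h).toRingHom).rels w fun r hr => ?_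
  refine Ideal.span_mono ?_ (hw r hr)
  rintro _ ⟨l, hl, rfl⟩
  exact Finset.mem_coe.2 (mem_map_rels c _ (Finset.mem_coe.1 hl))

/-- Charts with flat refinements over a finitely generated subring covering all its valuations. -/
theorem exists_charts_model (A : Type u) [CommRing A] {X : Scheme.{u}} (f : X ⟶ Spec (CommRingCat.of A))
    [LocallyOfFinitePresentation f] [QuasiCompact f] [QuasiSeparated f] (hf : Subtr.UnivSSubtrusive f) :
    ∃ (A₁ : Subalgebra ℤ A) (X₁ : Scheme.{u}) (f₁ : X₁ ⟶ Spec (CommRingCat.of A₁)) (q : X ⟶ X₁)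
      (cs : Finset (Chart A₁)), A₁.FG ∧ IsPullback q f f₁ (Spec.map (CommRingCat.ofHom A₁.val.toRingHom)) ∧
      LocallyOfFinitePresentation f₁ ∧ QuasiCompact f₁ ∧ QuasiSeparated f₁ ∧
      (∀ c ∈ cs, FlatRefinable f₁ c.toBase) ∧
      ∀ (K : Type u) [Field K] (ψ : A₁ →+* K) (O : ValuationSubring K), (∀ x, ψ x ∈ O) → ∃ c ∈ cs, c.Has ψ O := by
  classical
  obtain ⟨A', cs, hA', hgood, hcov⟩ := exists_finite_charts (fun c : Chart A => FlatRefinable f c.toBase)
    (fun K _ ψ O hO => exists_good_chart (fun {_} g => FlatRefinable f g) (fun H k e => H.of_comp k e)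
      (fun V _ _ _ _ => exists_fp_flatRefinable' f hf V) K ψ O hO)
  haveI : IsDirectedOrder (FPModelLib.ZIdx (CommRingCat.of A)) :=
    ⟨fun S T => ⟨⟨S.1 ⊔ T.1, S.2.sup T.2⟩, le_sup_left (b := T.1), le_sup_right (a := S.1)⟩⟩
  haveI : Nonempty (FPModelLib.ZIdx (CommRingCat.of A)) := ⟨⟨⊥, Subalgebra.fg_bot⟩⟩
  haveI : IsFiltered (FPModelLib.ZIdx (CommRingCat.of A)) := isFiltered_of_directed_le_nonempty _
  obtain ⟨i, X₀, f₀, g₀, hl, hqc, hqs, hpb⟩ := Groth.Agent.S0591.result (FPModelLib.zSys (CommRingCat.of A))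
    (FPModelLib.zCone _) (FPModelLib.isLimitZCone _) X f
  let A₀ : Subalgebra ℤ A := i.unop.1
  let A₂ := A₀ ⊔ A'
  have hA₂ : A₂.FG := i.unop.2.sup hA'
  let ι₀ := Spec.map (CommRingCat.ofHom (Subalgebra.inclusion (le_sup_left : A₀ ≤ A₂)).toRingHom)
  let s₂ := Spec.map (CommRingCat.ofHom A₂.val.toRingHom)
  let f₂ := pullback.snd f₀ ι₀
  haveI : LocallyOfFinitePresentation f₂ := MorphismProperty.pullback_snd _ _ hl
  have hs₂ : s₂ ≫ ι₀ = Spec.map (CommRingCat.ofHom A₀.val.toRingHom) := (Spec.map_comp _ _).symm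
  let q₂ : X ⟶ pullback f₀ ι₀ := pullback.lift g₀ (f ≫ s₂) (by rw [Category.assoc, hs₂]; exact hpb.w)
  have hpb₂ : IsPullback q₂ f f₂ s₂ := IsPullback.of_right (by
    rw [pullback.lift_fst, hs₂]; exact hpb) (pullback.lift_snd _ _ _) (IsPullback.of_hasPullback f₀ ι₀)
  let k := (Subalgebra.inclusion (le_sup_right : A' ≤ A₂)).toRingHom
  have hstage : ∀ c : cs, ∃ s : Finset A, ∀ (B : Subalgebra ℤ A) (h : A₂ ≤ B), (↑s : Set A) ⊆ (B : Set A) →
      FlatRefinable f₂ (((c.1.map k).map (Subalgebra.inclusion h).toRingHom).toBase ≫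
        Spec.map (CommRingCat.ofHom (Subalgebra.inclusion h).toRingHom)) := fun c => by
    refine exists_stage_chart A₂ f₂ _ ?_
    rw [chart_map_map, show A₂.val.toRingHom.comp k = A'.val.toRingHom from RingHom.ext fun _ => rfl]
    obtain ⟨T, t, m, hm, r⟩ := hgood c.1 c.2
    exact ⟨T, t, m ≫ q₂, by rw [Category.assoc, hpb₂.w, reassoc_of% hm], r⟩
  choose s hs using hstage
  let A₁ := A₂ ⊔ Algebra.adjoin ℤ (↑(Finset.univ.biUnion s) : Set A)
  have h₁ : A₂ ≤ A₁ := le_sup_left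
  have hsA : ∀ c : cs, (↑(s c) : Set A) ⊆ (A₁ : Set A) := fun c a ha =>
    (le_sup_right : Algebra.adjoin ℤ (↑(Finset.univ.biUnion s) : Set A) ≤ A₁)
      (Algebra.subset_adjoin (Finset.mem_coe.2 (Finset.mem_biUnion.2 ⟨c, Finset.mem_univ _, ha⟩)))
  let j := (Subalgebra.inclusion h₁).toRingHom
  let sj := Spec.map (CommRingCat.ofHom j)
  let s₁ := Spec.map (CommRingCat.ofHom A₁.val.toRingHom)
  have hs₁ : s₁ ≫ sj = s₂ := (Spec.map_comp _ _).symm
  let q₁ : X ⟶ pullback f₂ sj := pullback.lift q₂ (f ≫ s₁) (by rw [Category.assoc, hs₁]; exact hpb₂.w)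
  refine ⟨A₁, pullback f₂ sj, pullback.snd f₂ sj, q₁, cs.image fun c => (c.map k).map j,
    hA₂.sup (Subalgebra.fg_adjoin_finset _), ?_, inferInstance, MorphismProperty.pullback_snd _ _
      (MorphismProperty.pullback_snd _ _ hqc), MorphismProperty.pullback_snd _ _ (MorphismProperty.pullback_snd _ _ hqs),
    fun c hc => ?_, fun K _ ψ O hO => ?_⟩
  · exact IsPullback.of_right (by rw [pullback.lift_fst, hs₁]; exact hpb₂) (pullback.lift_snd _ _ _)
      (IsPullback.of_hasPullback f₂ sj)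
  · obtain ⟨c₀, hc₀, rfl⟩ := Finset.mem_image.1 hc
    exact pullback_of_flatRefinable (hs ⟨c₀, hc₀⟩ A₁ h₁ (hsA _))
  · obtain ⟨c, hc, hhas⟩ := hcov K (ψ.comp (j.comp k)) O fun x => hO _
    exact ⟨_, Finset.mem_image_of_mem _ hc, chart_map_has _ j ψ O (chart_map_has c k _ O hhas)⟩

end Groth.Agent.SubtrRefineLib
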