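import Groth.Agent.SubtrRefineLib.Section
import Groth.Agent.FlatStage.Point

/-! Descent of universally subtrusive morphisms of finite presentation along limits with affine transition maps. -/

set_option autoImplicit false
set_option linter.style.haveILetI false
set_option backward.isDefEq.respectTransparency false
set_option backward.isDefEq.respectTransparency.types false

universe u
open CategoryTheory CategoryTheory.Limits AlgebraicGeometry TopologicalSpace

noncomputable section

namespace Groth.Agent.SubtrRefineLib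

open Groth.Agent.ValEtDescLib

theorem specializes_of_inducing {α β : Type*} [TopologicalSpace α] [TopologicalSpace β] {g : α → β}
    (hg : Topology.IsInducing g) {a b : α} (h : g a ⤳ g b) : a ⤳ b := hg.specializes_iff.1 h

/-- Universal subtrusiveness is local on the target. -/
theorem univSSubtrusive_of_cover {X Y : Scheme.{u}} (f : X ⟶ Y) {ι : Type*} (U : ι → Scheme.{u}) (j : ∀ i, U i ⟶ Y)
    [∀ i, IsOpenImmersion (j i)] (hcov : ∀ y : Y, ∃ i, y ∈ Set.range (j i))
    (H : ∀ i, Subtr.UnivSSubtrusive (pullback.snd f (j i))) : Subtr.UnivSSubtrusive f := by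
  intro X' Y' i₁ i₂ f' sq y y' hy
  obtain ⟨i, hi⟩ := hcov (i₂ y)
  let o := pullback.fst i₂ (j i)
  obtain ⟨w, hw⟩ : y ∈ Set.range o := by
    obtain ⟨v, hv⟩ := hi
    obtain ⟨w, hw, -⟩ := Scheme.Pullback.exists_preimage_pullback (f := i₂) (g := j i) y v hv.symm
    exact ⟨w, hw⟩
  obtain ⟨w', hw'⟩ : y' ∈ Set.range o := o.isOpenEmbedding.isOpen_range.stableUnderGeneralization hy ⟨w, hw⟩
  have hww : w' ⤳ w := specializes_of_inducing o.isOpenEmbedding.isInducing (by rw [hw, hw']; exact hy)
  let g := pullback.snd f (j i)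
  have h1 : IsPullback (pullback.fst f' o ≫ i₁) (pullback.snd f' o) f (o ≫ i₂) :=
    (IsPullback.of_hasPullback f' o).paste_horiz sq.flip
  let l : pullback f' o ⟶ pullback f (j i) := pullback.lift (pullback.fst f' o ≫ i₁)
    (pullback.snd f' o ≫ pullback.snd i₂ (j i)) (by rw [h1.w, pullback.condition, Category.assoc])
  have h2 : IsPullback l (pullback.snd f' o) g (pullback.snd i₂ (j i)) :=
    IsPullback.of_right (by rw [pullback.lift_fst, ← pullback.condition]; exact h1) (pullback.lift_snd _ _ _)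
      (IsPullback.of_hasPullback f (j i))
  obtain ⟨x, x', hx, e, e'⟩ := (MorphismProperty.universally_le _ _
    (MorphismProperty.of_isPullback (P := MorphismProperty.universally _) h2 (H i)) :
      Subtr.IsSSubtrusive (pullback.snd f' o)) hww
  refine ⟨pullback.fst f' o x, pullback.fst f' o x', hx.map (pullback.fst f' o).continuous, ?_, ?_⟩
  · rw [← Scheme.Hom.comp_apply, pullback.condition, Scheme.Hom.comp_apply, e, hw]
  · rw [← Scheme.Hom.comp_apply, pullback.condition, Scheme.Hom.comp_apply, e', hw']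

theorem lfp_specInt {R : Type u} [CommRing R] (h : Algebra.FiniteType ℤ R) :
    LocallyOfFinitePresentation (specULiftZIsTerminal.from (Spec (CommRingCat.of R))) := by
  obtain ⟨φ, hφ⟩ := Spec.map_surjective (specULiftZIsTerminal.from (Spec (CommRingCat.of R)))
  rw [← hφ]
  haveI : IsNoetherianRing (ULift.{u} ℤ) := isNoetherianRing_of_ringEquiv ℤ ULift.ringEquiv.symm
  refine (HasRingHomProperty.Spec_iff (P := @LocallyOfFinitePresentation)).2
    (RingHom.FinitePresentation.of_finiteType.1 ?_)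
  have h2 : (φ.hom.comp ((ULift.ringEquiv : ULift.{u} ℤ ≃+* ℤ).symm.toRingHom)).FiniteType := by
    rw [show φ.hom.comp ((ULift.ringEquiv : ULift.{u} ℤ ≃+* ℤ).symm.toRingHom) = algebraMap ℤ R from Subsingleton.elim _ _]
    exact RingHom.finiteType_algebraMap.2 h
  exact h2.of_comp_finiteType

variable {J : Type u} [SmallCategory J] [IsCofiltered J] {X₀ Y₀ : Scheme.{u}}

/-- Along a cofiltered system of affine schemes, subtrusiveness in the limit holds at some stage. -/
theorem exists_stage_subtrusive (E : J ⥤ Scheme.{u}) (c : Cone E) (hc : IsLimit c) [∀ j, IsAffine (E.obj j)]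
    [IsAffine c.pt] (e : E ⟶ (Functor.const _).obj Y₀) (eP : c.pt ⟶ Y₀) (heP : ∀ j, c.π.app j ≫ e.app j = eP)
    (f₀ : X₀ ⟶ Y₀) [LocallyOfFinitePresentation f₀] [QuasiCompact f₀] [QuasiSeparated f₀]
    (hf : Subtr.UnivSSubtrusive (pullback.snd f₀ eP)) :
    ∃ k, Subtr.UnivSSubtrusive (pullback.snd f₀ (e.app k)) := by
  let fP := pullback.snd f₀ eP
  have hf' : Subtr.UnivSSubtrusive (fP ≫ c.pt.isoSpec.hom) :=
    (MorphismProperty.cancel_right_of_respectsIso (MorphismProperty.universally _) fP c.pt.isoSpec.hom).2 hf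
  haveI : LocallyOfFinitePresentation fP := MorphismProperty.pullback_snd _ _ inferInstance
  haveI : QuasiCompact fP := MorphismProperty.pullback_snd _ _ inferInstance
  haveI : QuasiSeparated fP := MorphismProperty.pullback_snd _ _ inferInstance
  obtain ⟨A₁, X₁, f₁, g, hfg, hpb', -, -, -, P, q, hq1, hq2, hq3, T, t, m, hm, ht1, ht2, ht3, ht4, ht5⟩ :=
    exists_model_properRefinable Γ(c.pt, ⊤) (fP ≫ c.pt.isoSpec.hom) hf'
  have hpb := isPullback_isoSpec hpb'
  let θ := c.pt.isoSpec.hom ≫ Spec.map (CommRingCat.ofHom A₁.val.toRingHom)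
  haveI : Algebra.FiniteType ℤ A₁ := ⟨(Subalgebra.fg_top A₁).2 hfg⟩
  haveI := lfp_specInt (R := A₁) inferInstance
  haveI : ∀ j, CompactSpace (E.obj j) := fun j => inferInstance
  haveI : ∀ j, QuasiSeparatedSpace (E.obj j) := fun j => inferInstance
  haveI : ∀ {i j : J} (h : i ⟶ j), IsAffineHom (E.map h) := fun h => inferInstance
  let tS : E ⟶ (Functor.const _).obj (Spec (CommRingCat.of (ULift.{u} ℤ))) :=
    { app := fun j => specULiftZIsTerminal.from _
      naturality := fun i j h => specULiftZIsTerminal.hom_ext _ _ }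
  obtain ⟨j₁, e₁, he₁, -⟩ := Scheme.exists_π_app_comp_eq_of_locallyOfFinitePresentation E tS
    (specULiftZIsTerminal.from (Spec (CommRingCat.of A₁))) c hc θ (by
      ext j
      exact specULiftZIsTerminal.hom_ext _ _)
  let u₁ : T ⟶ Spec (CommRingCat.of A₁) := t ≫ q
  haveI : LocallyOfFinitePresentation u₁ := inferInstance
  have hu : Subtr.UnivSSubtrusive u₁ := univSSubtrusive_comp t q (univSSubtrusive_of_flat t) (univSSubtrusive_of_closed q)
  let a : pullback u₁ e₁ ⟶ E.obj j₁ := pullback.snd u₁ e₁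
  have ha : Subtr.UnivSSubtrusive a := MorphismProperty.pullback_snd (P := MorphismProperty.universally _) _ _ hu
  haveI : QuasiCompact a := MorphismProperty.pullback_snd _ _ inferInstance
  haveI : QuasiSeparated a := MorphismProperty.pullback_snd _ _ inferInstance
  let B := AffLim.baseChange E j₁ a
  let cB := AffLim.baseChangeCone E c j₁ a
  obtain ⟨hcB⟩ := AffLim.nonempty_isLimit_baseChangeCone E c hc j₁ a
  haveI : ∀ k : Over j₁, CompactSpace (B.obj k) := fun k =>
    QuasiCompact.compactSpace_of_compactSpace (pullback.snd a (E.map k.hom))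
  haveI : ∀ k : Over j₁, QuasiSeparatedSpace (B.obj k) := fun k =>
    quasiSeparatedSpace_of_quasiSeparated (pullback.snd a (E.map k.hom))
  haveI : ∀ {i k : Over j₁} (h : i ⟶ k), IsAffineHom (B.map h) := fun {i k} h => by
    haveI : IsAffineHom (pullback.fst a (E.map i.hom)) := MorphismProperty.pullback_fst _ _ inferInstance
    have e : B.map h ≫ pullback.fst a (E.map k.hom) = pullback.fst a (E.map i.hom) := by
      simp [B, AffLim.baseChange, pullback.map]
    haveI : IsAffineHom (pullback.fst a (E.map k.hom)) := MorphismProperty.pullback_fst _ _ inferInstance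
    haveI : IsAffineHom (B.map h ≫ pullback.fst a (E.map k.hom)) := by rw [e]; infer_instance
    exact IsAffineHom.of_comp (B.map h) (pullback.fst a (E.map k.hom))
  let tB : B ⟶ (Functor.const _).obj Y₀ :=
    { app := fun k => pullback.snd a (E.map k.hom) ≫ e.app k.left
      naturality := fun i k h => by
        simp only [B, AffLim.baseChange, pullback.map, Functor.const_obj_obj, Functor.const_obj_map, Category.comp_id,
          pullback.lift_snd_assoc, Category.assoc]
        rw [← Category.comp_id (e.app i.left)]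
        exact congrArg _ (e.naturality h.left) }
  let mP : cB.pt ⟶ X₀ := hpb.lift (pullback.fst a (c.π.app j₁) ≫ pullback.fst u₁ e₁ ≫ m)
    (pullback.snd a (c.π.app j₁)) (by
      rw [Category.assoc, Category.assoc, hm]
      rw [show pullback.fst u₁ e₁ ≫ t ≫ q = pullback.snd u₁ e₁ ≫ e₁ from pullback.condition,
        pullback.condition_assoc, he₁]) ≫ pullback.fst f₀ eP
  obtain ⟨k, mk, hmk, hmk'⟩ := Scheme.exists_π_app_comp_eq_of_locallyOfFinitePresentation B tB f₀ cB hcB mP (by
    ext k
    show cB.π.app k ≫ pullback.snd a (E.map k.hom) ≫ e.app k.left = mP ≫ f₀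
    simp only [mP, Category.assoc, pullback.condition]
    rw [show fP = pullback.snd f₀ eP from rfl] at *
    rw [hpb.lift_snd_assoc, ← heP k.left]
    simp [cB, AffLim.baseChangeCone, pullback.map])
  refine ⟨k.left, univSSubtrusive_of_comp (pullback.lift mk (pullback.snd a (E.map k.hom)) ?_) _ ?_⟩
  · exact hmk'
  · rw [pullback.lift_snd]
    exact MorphismProperty.pullback_snd (P := MorphismProperty.universally _) _ _ ha

theorem subtrusive_of_map (f₀ : X₀ ⟶ Y₀) {V W : Scheme.{u}} (v : V ⟶ Y₀) (w : W ⟶ Y₀) (h : V ⟶ W) (e : h ≫ w = v)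
    (H : Subtr.UnivSSubtrusive (pullback.snd f₀ w)) : Subtr.UnivSSubtrusive (pullback.snd f₀ v) := by
  subst e
  exact MorphismProperty.of_isPullback (P := MorphismProperty.universally _)
    (IsPullback.of_right (h₁₁ := pullback.lift (pullback.fst f₀ (h ≫ w)) (pullback.snd f₀ (h ≫ w) ≫ h)
      (by rw [Category.assoc, pullback.condition]))
      (by rw [pullback.lift_fst]; exact IsPullback.of_hasPullback f₀ (h ≫ w)) (pullback.lift_snd _ _ _)
      (IsPullback.of_hasPullback f₀ w)) H

theorem exists_stage_of_limit {I : Type u} [SmallCategory I] [IsCofiltered I]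
    (D : I ⥤ Scheme.{u}) (c : Limits.Cone D) (hc : Limits.IsLimit c)
    [∀ (i j : I) (a : i ⟶ j), IsAffineHom (D.map a)] (i₀ : I) (f₀ : X₀ ⟶ Y₀) (g₀ : Y₀ ⟶ D.obj i₀) [CompactSpace Y₀]
    [LocallyOfFinitePresentation f₀] [QuasiCompact f₀] [QuasiSeparated f₀]
    (hf : Subtr.UnivSSubtrusive (pullback.snd f₀ (pullback.fst g₀ (c.π.app i₀)))) :
    ∃ k : Over i₀, Subtr.UnivSSubtrusive (pullback.snd f₀ (pullback.fst g₀ (D.map k.hom))) := by
  classical
  haveI : ∀ {i j : I} (a : i ⟶ j), IsAffineHom (D.map a) := fun {i j} a => inferInstance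
  haveI := isAffineHom_π_app D c hc i₀
  obtain ⟨t, ht⟩ := isCompact_univ.elim_finite_subcover (fun V : Y₀.affineOpens => ((V : Y₀.Opens) : Set Y₀))
    (fun V => V.1.isOpen) fun y _ => by
      obtain ⟨V, hV, hy, -⟩ := exists_isAffineOpen_mem_and_subset (X := Y₀) (x := y) (U := ⊤) trivial
      exact Set.mem_iUnion.2 ⟨⟨V, hV⟩, hy⟩
  have key : ∀ V : Y₀.affineOpens, ∃ k : Over i₀,
      Subtr.UnivSSubtrusive (pullback.snd f₀ (pullback.fst (V.1.ι ≫ g₀) (D.map k.hom) ≫ V.1.ι)) := fun V => by
    haveI : IsAffine V.1.toScheme := V.2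
    let E := AffLim.baseChange D i₀ (V.1.ι ≫ g₀)
    let cE := AffLim.baseChangeCone D c i₀ (V.1.ι ≫ g₀)
    obtain ⟨hcE⟩ := AffLim.nonempty_isLimit_baseChangeCone D c hc i₀ (V.1.ι ≫ g₀)
    haveI : ∀ k, IsAffine (E.obj k) := fun k => by
      haveI : IsAffineHom (pullback.fst (V.1.ι ≫ g₀) (D.map k.hom)) := MorphismProperty.pullback_fst _ _ inferInstance
      exact isAffine_of_isAffineHom (pullback.fst (V.1.ι ≫ g₀) (D.map k.hom))
    haveI : IsAffine cE.pt := by
      haveI : IsAffineHom (pullback.fst (V.1.ι ≫ g₀) (c.π.app i₀)) := MorphismProperty.pullback_fst _ _ inferInstance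
      exact isAffine_of_isAffineHom (pullback.fst (V.1.ι ≫ g₀) (c.π.app i₀))
    let e : E ⟶ (Functor.const _).obj Y₀ :=
      { app := fun k => pullback.fst (V.1.ι ≫ g₀) (D.map k.hom) ≫ V.1.ι
        naturality := fun i k h => by simp [E, AffLim.baseChange, pullback.map] }
    exact exists_stage_subtrusive E cE hcE e (pullback.fst (V.1.ι ≫ g₀) (c.π.app i₀) ≫ V.1.ι)
      (fun k => by simp [e, cE, AffLim.baseChangeCone, pullback.map]) f₀
      (subtrusive_of_map f₀ _ (pullback.fst g₀ (c.π.app i₀))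
        (pullback.map _ _ _ _ V.1.ι (𝟙 _) (𝟙 _) (by simp) (by simp)) (by simp [pullback.map]) hf)
  choose k hk using key
  obtain ⟨K, hK⟩ := IsCofiltered.inf_objs_exists (t.image k)
  refine ⟨K, univSSubtrusive_of_cover _ (fun V : t => pullback (V.1.1.ι ≫ g₀) (D.map K.hom))
    (fun V => pullback.map _ _ _ _ V.1.1.ι (𝟙 _) (𝟙 _) (by simp) (by simp)) (fun y => ?_) fun V => ?_⟩
  · obtain ⟨V, hV, hy⟩ := Set.mem_iUnion₂.1 (ht (Set.mem_univ (pullback.fst g₀ (D.map K.hom) y)))
    refine ⟨⟨V, hV⟩, ?_⟩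
    rw [Scheme.Pullback.range_map]
    refine ⟨?_, by simp⟩
    show _ ∈ Set.range V.1.ι
    rw [Scheme.Opens.range_ι]
    exact hy
  · obtain ⟨h⟩ := hK (Finset.mem_image_of_mem k V.2)
    let v := pullback.map (V.1.1.ι ≫ g₀) (D.map K.hom) g₀ (D.map K.hom) V.1.1.ι (𝟙 _) (𝟙 _) (by simp) (by simp)
    have h1 : Subtr.UnivSSubtrusive (pullback.snd f₀ (v ≫ pullback.fst g₀ (D.map K.hom))) :=
      subtrusive_of_map f₀ _ _ ((AffLim.baseChange D i₀ (V.1.1.ι ≫ g₀)).map h)
        (by simp [v, AffLim.baseChange, pullback.map]) (hk V.1)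
    exact (MorphismProperty.cancel_left_of_respectsIso (MorphismProperty.universally _)
      (pullbackLeftPullbackSndIso f₀ (pullback.fst g₀ (D.map K.hom)) v).inv _).1
      (by rw [pullbackLeftPullbackSndIso_inv_snd_snd]; exact h1)

end Groth.Agent.SubtrRefineLib
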