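import Groth.Agent.SubtrRefineLib.Local
import Groth.Agent.QFinEtDesc.Proper

/-! A subtrusive morphism of finite presentation is refined by a flat cover followed by a proper surjective
morphism. -/

set_option autoImplicit false
set_option linter.style.haveILetI false
set_option backward.isDefEq.respectTransparency false
set_option backward.isDefEq.respectTransparency.types false

universe u
open CategoryTheory CategoryTheory.Limits AlgebraicGeometry TopologicalSpace

noncomputable section

namespace Groth.Agent.SubtrRefineLib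

open Groth.Agent.ValEtDescLib

variable {X Y : Scheme.{u}}

/-- Local flat refinements glue to a flat cover. -/
theorem exists_cover_of_local {P : Scheme.{u}} [CompactSpace P] [QuasiSeparatedSpace P] (f : X ⟶ Y) (q : P ⟶ Y)
    (H : ∀ z : P, ∃ W : P.Opens, z ∈ W ∧ FlatRefinable f (W.ι ≫ q)) : FlatRefinable f q := by
  classical
  have hloc : ∀ z : P, ∃ O : P.Opens, z ∈ O ∧ IsAffine (O : Scheme.{u}) ∧ FlatRefinable f (O.ι ≫ q) := fun z => by
    obtain ⟨W, hz, hW⟩ := H z
    obtain ⟨O, hO, hzO, hOW⟩ := exists_isAffineOpen_mem_and_subset (X := P) (x := z) (U := W) hz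
    exact ⟨O, hzO, hO, hW.of_comp (P.homOfLE hOW) (by simp)⟩
  choose O hzO hOa hOr using hloc
  obtain ⟨t, ht⟩ := isCompact_univ.elim_finite_subcover (fun z : P => (O z : Set P)) (fun z => (O z).isOpen)
    fun z _ => Set.mem_iUnion.2 ⟨z, hzO z⟩
  choose T tt m hm hflat hlfp hsurj hqc hqs using fun z : t => hOr z.1
  haveI : ∀ z : t, IsAffine (O z.1 : Scheme.{u}) := fun z => hOa z.1
  let d : ∐ (fun z : t => (O z.1 : Scheme.{u})) ⟶ P := Limits.Sigma.desc fun z : t => (O z.1).ι
  haveI : IsAffine (∐ fun z : t => (O z.1 : Scheme.{u})) := inferInstance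
  haveI : QuasiCompact d := quasiCompact_of_compactSpace d
  haveI : QuasiSeparated d := QuasiSeparated.of_quasiSeparatedSpace d
  haveI : Flat d := IsZariskiLocalAtSource.sigmaDesc fun z => inferInstance
  haveI : LocallyOfFinitePresentation d := IsZariskiLocalAtSource.sigmaDesc fun z => inferInstance
  haveI : Surjective d := ⟨fun z => by
    obtain ⟨w, hw, hzw⟩ := Set.mem_iUnion₂.1 (ht (Set.mem_univ z))
    exact ⟨Sigma.ι (fun z : t => (O z.1 : Scheme.{u})) ⟨w, hw⟩ ⟨z, hzw⟩, by
      rw [← Scheme.Hom.comp_apply, Sigma.ι_desc]; rfl⟩⟩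
  haveI : Flat (Limits.Sigma.map tt) := SchDesc.prop_sigmaMap @Flat tt hflat
  haveI : LocallyOfFinitePresentation (Limits.Sigma.map tt) := SchDesc.prop_sigmaMap @LocallyOfFinitePresentation tt hlfp
  haveI : Surjective (Limits.Sigma.map tt) := SchDesc.prop_sigmaMap @Surjective tt hsurj
  haveI : QuasiCompact (Limits.Sigma.map tt) := SchDesc.prop_sigmaMap @QuasiCompact tt hqc
  haveI : QuasiSeparated (Limits.Sigma.map tt) := SchDesc.prop_sigmaMap @QuasiSeparated tt hqs
  refine ⟨∐ T, Limits.Sigma.map tt ≫ d, Limits.Sigma.desc m, ?_, inferInstance, inferInstance, inferInstance,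
    inferInstance, inferInstance⟩
  ext z
  simp [hm z, d]

/-- The conclusion of the refinement theorem, as flat refinability over a proper surjective morphism. -/
def ProperRefinable (f : X ⟶ Y) : Prop :=
  ∃ (P : Scheme.{u}) (q : P ⟶ Y), IsProper q ∧ Surjective q ∧ LocallyOfFinitePresentation q ∧ FlatRefinable f q

theorem properRefinable_of_noetherian [IsNoetherian Y] (f : X ⟶ Y) [LocallyOfFinitePresentation f]
    [QuasiCompact f] [QuasiSeparated f] (hf : Subtr.UnivSSubtrusive f) : ProperRefinable f := by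
  obtain ⟨P, q, h1, h2, h3⟩ := exists_proper_flatRefinable f hf
  haveI : CompactSpace P := QuasiCompact.compactSpace_of_compactSpace q
  haveI : QuasiSeparatedSpace P := quasiSeparatedSpace_of_quasiSeparated q
  exact ⟨P, q, h1, h2, QFinEtDesc.lfp_of_noetherian q, exists_cover_of_local f q h3⟩

theorem ProperRefinable.of_isPullback {X₀ Y₀ : Scheme.{u}} {g : X ⟶ X₀} {f : X ⟶ Y} {f₀ : X₀ ⟶ Y₀} {b : Y ⟶ Y₀}
    (hpb : IsPullback g f f₀ b) (H : ProperRefinable f₀) : ProperRefinable f := by
  obtain ⟨P, q, h1, h2, h3, h4⟩ := H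
  exact ⟨pullback q b, pullback.snd q b, inferInstance, inferInstance, inferInstance,
    flatRefinable_of_isPullback hpb (h4.of_comp (pullback.fst q b) pullback.condition)⟩

/-- Over an affine base, refinability descends to a finitely generated subring. -/
theorem exists_model_properRefinable (A : Type u) [CommRing A] (f : X ⟶ Spec (CommRingCat.of A))
    [LocallyOfFinitePresentation f] [QuasiCompact f] [QuasiSeparated f] (hf : Subtr.UnivSSubtrusive f) :
    ∃ (A₁ : Subalgebra ℤ A) (X₁ : Scheme.{u}) (f₁ : X₁ ⟶ Spec (CommRingCat.of A₁)) (g : X ⟶ X₁),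
      A₁.FG ∧ IsPullback g f f₁ (Spec.map (CommRingCat.ofHom A₁.val.toRingHom)) ∧
      LocallyOfFinitePresentation f₁ ∧ QuasiCompact f₁ ∧ QuasiSeparated f₁ ∧ ProperRefinable f₁ := by
  obtain ⟨A₁, X₁, f₁, g, cs, hfg, hpb, h1, h2, h3, hgood, hcov⟩ := exists_charts_model A f hf
  refine ⟨A₁, X₁, f₁, g, hfg, hpb, h1, h2, h3, ?_⟩
  haveI : Algebra.FiniteType ℤ A₁ := ⟨(Subalgebra.fg_top A₁).2 hfg⟩
  haveI : IsNoetherianRing A₁ := Algebra.FiniteType.isNoetherianRing ℤ A₁
  obtain ⟨P, y, hy1, hy2, hsub⟩ := exists_modification cs hcov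
  haveI : IsLocallyNoetherian (Spec (CommRingCat.of A₁)) := inferInstance
  haveI : CompactSpace P := QuasiCompact.compactSpace_of_compactSpace y
  haveI : QuasiSeparatedSpace P := quasiSeparatedSpace_of_quasiSeparated y
  refine ⟨P, y, hy1, hy2, QFinEtDesc.lfp_of_noetherian y, exists_cover_of_local f₁ y fun z => ?_⟩
  obtain ⟨W, j, hj, hzj, c, hc, k, hk⟩ := hsub z
  haveI := hj
  exact ⟨j.opensRange, hzj, (hgood c hc).of_comp (j.isoOpensRange.inv ≫ k) (by
    rw [Category.assoc, hk, Scheme.Hom.isoOpensRange_inv_comp_assoc])⟩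

theorem properRefinable_of_affine [IsAffine Y] (f : X ⟶ Y) [LocallyOfFinitePresentation f]
    [QuasiCompact f] [QuasiSeparated f] (hf : Subtr.UnivSSubtrusive f) : ProperRefinable f := by
  have hf' : Subtr.UnivSSubtrusive (f ≫ Y.isoSpec.hom) :=
    (MorphismProperty.cancel_right_of_respectsIso (MorphismProperty.universally _) f Y.isoSpec.hom).2 hf
  obtain ⟨A₁, X₁, f₁, g, -, hpb, -, -, -, H⟩ := exists_model_properRefinable Γ(Y, ⊤) (f ≫ Y.isoSpec.hom) hf'
  exact H.of_isPullback (g := g) (b := Y.isoSpec.hom ≫ Spec.map (CommRingCat.ofHom A₁.val.toRingHom)) (by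
    exact IsPullback.of_iso hpb (Iso.refl X) (Iso.refl X₁) Y.isoSpec.symm (Iso.refl _) (by simp) (by simp) (by simp) (by simp))

end Groth.Agent.SubtrRefineLib
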