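import Groth.Agent.SubtrRefineLib.Assemble
import Groth.Agent.AICCover.Finite
import Groth.Agent.FinExtend.ZMT
import Groth.Agent.S2583

/-! Finite covers on which quasi-finite subtrusive morphisms have sections Zariski locally. -/

set_option autoImplicit false
set_option linter.style.haveILetI false
set_option backward.isDefEq.respectTransparency false
set_option backward.isDefEq.respectTransparency.types false

universe u
open CategoryTheory CategoryTheory.Limits AlgebraicGeometry TopologicalSpace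

noncomputable section

namespace Groth.Agent.SubtrRefineLib

open Groth.Agent.ValEtDescLib

open TensorProduct

/-- Over a local domain with roots, a quasi-finite algebra with comparable primes over the generic and the closed
point has a section. -/
theorem exists_section_of_pair {D B : Type u} [CommRing D] [IsDomain D] [IsLocalRing D] [CommRing B] [Algebra D B]
    [Algebra.FiniteType D B] [Algebra.QuasiFinite D B] (h : AICCover.MonicRoot D) (P Q : PrimeSpectrum B) (hPQ : P ≤ Q)
    (hP : P.asIdeal.under D = ⊥) (hQ : Q.asIdeal.under D = IsLocalRing.maximalIdeal D) :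
    Nonempty (B →ₐ[D] D) := by
  let E := B ⧸ P.asIdeal
  haveI : Algebra.FiniteType D E := Algebra.FiniteType.of_surjective (Ideal.Quotient.mkₐ D P.asIdeal) Ideal.Quotient.mk_surjective
  haveI : Algebra.QuasiFinite D E := inferInstance
  let Q' : Ideal E := Q.asIdeal.map (Ideal.Quotient.mk P.asIdeal)
  haveI : Q'.IsPrime := Ideal.map_isPrime_of_surjective Ideal.Quotient.mk_surjective (by
    rw [Ideal.mk_ker]; exact hPQ)
  obtain ⟨r, hr, hri, hx⟩ := Algebra.zariskisMainProperty_iff.1
    (Algebra.ZariskisMainProperty.of_finiteType_of_weaklyQuasiFiniteAt (R := D) Q')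
  obtain ⟨d, rfl⟩ := h.mem_range hri
  have hd : IsUnit d := by
    by_contra hd
    refine hr ?_
    have : d ∈ Q.asIdeal.under D := by rw [hQ]; exact hd
    exact Ideal.mem_map_of_mem (Ideal.Quotient.mk P.asIdeal) this
  have hsurj : Function.Surjective (algebraMap D E) := fun z => by
    obtain ⟨m, hm⟩ := hx z
    obtain ⟨d', hd'⟩ := h.mem_range hm
    refine ⟨↑(hd.pow m).unit⁻¹ * d', ?_⟩
    rw [map_mul, hd', ← map_pow, ← mul_assoc, ← map_mul, IsUnit.val_inv_mul, map_one, one_mul]
  have hinj : Function.Injective (algebraMap D E) := (RingHom.injective_iff_ker_eq_bot _).2 (by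
    rw [IsScalarTower.algebraMap_eq D B E, ← RingHom.comap_ker, Ideal.Quotient.algebraMap_eq, Ideal.mk_ker]
    exact hP)
  exact ⟨(AlgEquiv.ofBijective (Algebra.ofId D E) ⟨hinj, hsurj⟩).symm.toAlgHom.comp (Ideal.Quotient.mkₐ D P.asIdeal)⟩

theorem exists_local_section {R C B : Type u} [CommRing R] [CommRing C] [CommRing B] [Algebra R C] [Algebra R B]
    [Algebra.FinitePresentation R B] [Algebra.QuasiFinite R B]
    (hmr : AICCover.MonicRoot C) (q : Ideal C) [q.IsPrime] [IsDomain (Localization.AtPrime q)]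
    (hB : Subtr.UnivSSubtrusive (Spec.map (CommRingCat.ofHom (algebraMap R B)))) :
    ∃ a ∉ q, Nonempty (B →ₐ[R] Localization.Away a) := by
  let D := Localization.AtPrime q
  let g := Spec.map (CommRingCat.ofHom (algebraMap R D))
  have h1 : Subtr.IsSSubtrusive (pullback.fst g (Spec.map (CommRingCat.ofHom (algebraMap R B)))) :=
    MorphismProperty.universally_le _ _
      (MorphismProperty.pullback_fst (P := MorphismProperty.universally _) g _ hB)
  obtain ⟨x, x', hx, e, e'⟩ := h1 ((PrimeSpectrum.le_iff_specializes (⊥ : PrimeSpectrum D)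
    (IsLocalRing.closedPoint D)).1 bot_le)
  let π := pullbackSpecIso R D B
  have hπ : ∀ y, Spec.map (CommRingCat.ofHom (algebraMap D (D ⊗[R] B))) (π.hom y) =
      pullback.fst g (Spec.map (CommRingCat.ofHom (algebraMap R B))) y := fun y => by
    rw [← Scheme.Hom.comp_apply]
    refine congrArg (fun k : pullback g (Spec.map (CommRingCat.ofHom (algebraMap R B))) ⟶ _ => k y) ?_
    rw [← Iso.eq_inv_comp]
    exact (pullbackSpecIso_inv_fst R D B).symm
  obtain ⟨s⟩ := exists_section_of_pair (D := D) (B := D ⊗[R] B) (hmr.of_isLocalization q.primeCompl)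
    (π.hom x') (π.hom x) ((PrimeSpectrum.le_iff_specializes _ _).2 (hx.map π.hom.continuous))
    (congrArg PrimeSpectrum.asIdeal ((hπ x').trans e')) (congrArg PrimeSpectrum.asIdeal ((hπ x).trans e))
  obtain ⟨a, ha, φ, -⟩ := SpreadLib.exists_lift_away (R := R) q
    ((s.restrictScalars R).comp Algebra.TensorProduct.includeRight)
  exact ⟨a, ha, ⟨φ⟩⟩

/-- Zariski-local liftability. -/
def Liftable {X Y W : Scheme.{u}} (f : X ⟶ Y) (k : W ⟶ Y) : Prop := ∃ s : W ⟶ X, s ≫ f = k

/-- A finite surjective map to an affine scheme with local sections of a quasi-finite subtrusive morphism. -/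
theorem exists_finite_liftable_affine {X U : Scheme.{u}} [IsAffine U] (f : X ⟶ U)
    [LocallyOfFinitePresentation f] [QuasiCompact f] [QuasiSeparated f] [LocallyQuasiFinite f]
    (hf : Subtr.UnivSSubtrusive f) :
    ∃ (P : Scheme.{u}) (π : P ⟶ U), IsFinite π ∧ Surjective π ∧
      ∀ z : P, ∃ W : P.Opens, z ∈ W ∧ Liftable f (W.ι ≫ π) := by
  classical
  haveI : CompactSpace X := QuasiCompact.compactSpace_of_compactSpace f
  haveI : QuasiSeparatedSpace X := quasiSeparatedSpace_of_quasiSeparated f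
  obtain ⟨B, h, _, _, _⟩ := exists_affine_etale X
  haveI : QuasiCompact h := quasiCompact_of_compactSpace h
  let R := Γ(U, ⊤)
  obtain ⟨φ, hφ⟩ := Spec.map_surjective ((h ≫ f) ≫ U.isoSpec.hom)
  algebraize [φ.hom]
  have hB : Subtr.UnivSSubtrusive (Spec.map (CommRingCat.ofHom (algebraMap R B))) := by
    show Subtr.UnivSSubtrusive (Spec.map φ)
    rw [hφ]
    exact (MorphismProperty.cancel_right_of_respectsIso (MorphismProperty.universally _) _ _).2
      (univSSubtrusive_comp h f (univSSubtrusive_of_flat h) hf)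
  haveI : Algebra.FinitePresentation R B :=
    (HasRingHomProperty.Spec_iff (P := @LocallyOfFinitePresentation) (φ := φ)).1 (by rw [hφ]; infer_instance)
  haveI : Algebra.QuasiFinite R B :=
    (HasRingHomProperty.Spec_iff (P := @LocallyQuasiFinite) (φ := φ)).1 (by rw [hφ]; infer_instance)
  let K : PrimeSpectrum R → Type u := fun p => AlgebraicClosure p.asIdeal.ResidueField
  let C₀ := AICCover.C (A := R) K
  have hsur : Function.Surjective (PrimeSpectrum.comap (algebraMap R C₀)) :=
    AICCover.comap_surjective K fun p => ⟨p, by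
      rw [IsScalarTower.algebraMap_eq R p.asIdeal.ResidueField (K p), ← RingHom.comap_ker,
        (RingHom.injective_iff_ker_eq_bot _).1 (algebraMap p.asIdeal.ResidueField (K p)).injective]
      exact Ideal.ker_algebraMap_residueField p.asIdeal⟩
  obtain ⟨C', _, _, s, hfin, hsur', hspan, hmap⟩ := AICCover.exists_finite_of_integral (C := C₀) hsur
    (fun _ : PUnit.{u + 1} => (B : Type u)) (fun q => by
      haveI := AICCover.isDomain_localization K q.asIdeal
      obtain ⟨a, ha, hne⟩ := exists_local_section (AICCover.monicRoot_C K) q.asIdeal hB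
      exact ⟨a, PUnit.unit, ha, hne⟩)
  let π := Spec.map (CommRingCat.ofHom (algebraMap R C')) ≫ U.isoSpec.inv
  haveI : IsFinite (Spec.map (CommRingCat.ofHom (algebraMap R C'))) :=
    (IsFinite.SpecMap_iff _).2 (RingHom.finite_algebraMap.2 hfin)
  haveI : Surjective (Spec.map (CommRingCat.ofHom (algebraMap R C'))) := ⟨hsur'⟩
  refine ⟨_, π, inferInstance, inferInstance, fun x => ?_⟩
  obtain ⟨a, ha, hax⟩ : ∃ a ∈ s, a ∉ (x : PrimeSpectrum C').asIdeal := by
    by_contra hall
    push Not at hall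
    exact x.isPrime.ne_top (top_le_iff.1 (hspan.ge.trans (Ideal.span_le.2 hall)))
  obtain ⟨-, ⟨ψ⟩⟩ := hmap a ha
  let j := Spec.map (CommRingCat.ofHom (algebraMap C' (Localization.Away a)))
  haveI : IsOpenImmersion j := IsOpenImmersion.of_isLocalization a
  refine ⟨j.opensRange, ?_, j.isoOpensRange.inv ≫ Spec.map (CommRingCat.ofHom ψ.toRingHom) ≫ h, ?_⟩
  · show x ∈ Set.range (PrimeSpectrum.comap (algebraMap C' (Localization.Away a)))
    rw [PrimeSpectrum.localization_away_comap_range _ a]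
    exact hax
  · have h1 : h ≫ f = Spec.map φ ≫ U.isoSpec.inv := by rw [hφ]; simp
    rw [Category.assoc, Category.assoc, h1, ← Scheme.Hom.isoOpensRange_inv_comp j, Category.assoc, ← Spec.map_comp_assoc,
      ← Spec.map_comp_assoc]
    congr 3
    exact CommRingCat.hom_ext (RingHom.ext fun r => (ψ.commutes r).trans
      (IsScalarTower.algebraMap_apply R C' (Localization.Away a) r))

/-- A finite map over an affine open extends to a finite surjective map with the same local lifts over the open. -/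
theorem exists_finite_extension_near {X Y : Scheme.{u}} [IsNoetherian Y] (f : X ⟶ Y) (U : Y.Opens)
    (hU : IsAffineOpen U) {PU : Scheme.{u}} (π : PU ⟶ U.toScheme) [IsFinite π] [Surjective π]
    (H : ∀ z : PU, ∃ W : PU.Opens, z ∈ W ∧ Liftable f (W.ι ≫ π ≫ U.ι)) :
    ∃ (Q : Scheme.{u}) (q : Q ⟶ Y), IsFinite q ∧ Surjective q ∧ Near (fun {_} k => Liftable f k) q U := by
  obtain ⟨Y', g, ι, hg, hι, hιg⟩ := FinExtend.exists_finite_extension U hU π
  haveI := hg
  haveI := hι
  let Z : Closeds Y' := ⟨closure (Set.range ι), isClosed_closure⟩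
  let V : Closeds Y := ⟨(U : Set Y)ᶜ, U.2.isClosed_compl⟩
  let iZ := (Scheme.IdealSheafData.vanishingIdeal Z).subschemeι
  let iV := (Scheme.IdealSheafData.vanishingIdeal V).subschemeι
  have hrZ : Set.range iZ = closure (Set.range ι) := by
    rw [Scheme.IdealSheafData.range_subschemeι, Scheme.IdealSheafData.coe_support_vanishingIdeal]; rfl
  have hrV : Set.range iV = (U : Set Y)ᶜ := by
    rw [Scheme.IdealSheafData.range_subschemeι, Scheme.IdealSheafData.coe_support_vanishingIdeal]; rfl
  -- the part over `U` of the closure is the range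
  have hin : Set.range ι ⊆ Set.range (g ⁻¹ᵁ U).ι := by
    rintro _ ⟨z, rfl⟩
    rw [Scheme.Opens.range_ι]
    show g (ι z) ∈ U
    rw [← Scheme.Hom.comp_apply, hιg, Scheme.Hom.comp_apply]
    exact (π z).2
  let ι' := IsOpenImmersion.lift (g ⁻¹ᵁ U).ι ι hin
  have hι' : ι' ≫ (g ⁻¹ᵁ U).ι = ι := IsOpenImmersion.lift_fac _ _ _
  haveI : IsFinite ι' := by
    have h : ι' ≫ (g ∣_ U) = π := by
      rw [← cancel_mono U.ι, Category.assoc, morphismRestrict_ι, reassoc_of% hι', hιg]
    haveI : IsFinite (ι' ≫ (g ∣_ U)) := h ▸ inferInstance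
    exact IsFinite.of_comp ι' (g ∣_ U)
  have hcl : ∀ y ∈ closure (Set.range ι), g y ∈ U → y ∈ Set.range ι := fun y hy hyU => by
    have h1 : (⟨y, hyU⟩ : (g ⁻¹ᵁ U : Y'.Opens)) ∈ closure (Set.range ι') := by
      rw [(g ⁻¹ᵁ U).ι.isOpenEmbedding.isInducing.closure_eq_preimage_closure_image, ← Set.range_comp]
      have e : (⇑(g ⁻¹ᵁ U).ι ∘ ⇑ι') = ⇑ι := funext fun w => by
        show (g ⁻¹ᵁ U).ι (ι' w) = ι w
        rw [← Scheme.Hom.comp_apply, hι']
      rw [Set.mem_preimage, e]
      exact hy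
    rw [ι'.isClosedMap.isClosed_range.closure_eq] at h1
    obtain ⟨w, hw⟩ := h1
    exact ⟨w, by rw [← hι', Scheme.Hom.comp_apply, hw]; rfl⟩
  let F : ULift.{u} Bool → Scheme.{u} := fun b => cond b.down (Scheme.IdealSheafData.vanishingIdeal Z).subscheme
    (Scheme.IdealSheafData.vanishingIdeal V).subscheme
  let k : ∀ b, F b ⟶ Y := fun b => match b with
    | ⟨true⟩ => iZ ≫ g
    | ⟨false⟩ => iV
  have hk : ∀ b, IsFinite (k b) := by rintro ⟨_ | _⟩ <;> (dsimp [k]; infer_instance)
  refine ⟨∐ F, Limits.Sigma.desc k, QFinEtDesc.isFinite_sigmaDesc' F k hk, ⟨fun y => ?_⟩, fun z hz => ?_⟩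
  · by_cases hy : y ∈ U
    · obtain ⟨w, hw⟩ := π.surjective ⟨y, hy⟩
      obtain ⟨v, hv⟩ : ι w ∈ Set.range iZ := hrZ.ge (subset_closure ⟨w, rfl⟩)
      refine ⟨Sigma.ι F ⟨true⟩ v, ?_⟩
      rw [← Scheme.Hom.comp_apply, Sigma.ι_desc]
      show (iZ ≫ g) v = y
      rw [Scheme.Hom.comp_apply, hv, ← Scheme.Hom.comp_apply, hιg, Scheme.Hom.comp_apply, hw]
      rfl
    · obtain ⟨v, hv⟩ : y ∈ Set.range iV := hrV.ge hy
      refine ⟨Sigma.ι F ⟨false⟩ v, ?_⟩
      rw [← Scheme.Hom.comp_apply, Sigma.ι_desc]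
      exact hv
  · obtain ⟨⟨b⟩, v, rfl⟩ := (sigmaOpenCover F).exists_eq z
    change (Limits.Sigma.desc k) (Sigma.ι F ⟨b⟩ v) ∈ U at hz
    rw [← Scheme.Hom.comp_apply, Sigma.ι_desc] at hz
    cases b
    · exact (hrV.le ⟨v, rfl⟩ hz).elim
    · change (Scheme.IdealSheafData.vanishingIdeal Z).subscheme at v
      change (iZ ≫ g) v ∈ U at hz
      rw [Scheme.Hom.comp_apply] at hz
      obtain ⟨w, hw⟩ := hcl (iZ v) (hrZ.le ⟨v, rfl⟩) hz
      obtain ⟨W, hwW, s, hs⟩ := H w
      let e : (Scheme.IdealSheafData.vanishingIdeal Z).subscheme ⟶ ∐ F := Sigma.ι F ⟨true⟩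
      haveI : IsOpenImmersion e := inferInstanceAs (IsOpenImmersion (Sigma.ι F ⟨true⟩))
      let W' := iZ ⁻¹ᵁ (ι ''ᵁ W)
      have he : e ≫ Limits.Sigma.desc k = iZ ≫ g := Sigma.ι_desc _ _
      refine ⟨e ''ᵁ W', ⟨v, ⟨w, hwW, hw⟩, rfl⟩,
        (e.isoImage W').inv ≫ (iZ ∣_ (ι ''ᵁ W)) ≫ (ι.isoImage W).inv ≫ s, ?_⟩
      rw [Category.assoc, Category.assoc, Category.assoc, hs, ← hιg, Scheme.Hom.isoImage_inv_ι_assoc,
        morphismRestrict_ι_assoc, ← he, Scheme.Hom.isoImage_inv_ι_assoc]

end Groth.Agent.SubtrRefineLib
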