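import Groth.Agent.ValEtDescLib.SubtrSeparated
import Groth.Agent.ValEtDescLib.ProperLocal
import Groth.Agent.SubtrVal.Submersive

/-! Flat refinability of subtrusive morphisms at valuation rings and at charts. -/

set_option autoImplicit false
set_option linter.style.haveILetI false
set_option backward.isDefEq.respectTransparency false
set_option backward.isDefEq.respectTransparency.types false

universe u
open CategoryTheory CategoryTheory.Limits AlgebraicGeometry

noncomputable section

namespace Groth.Agent.SubtrRefineLib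

open Groth.Agent.ValEtDescLib

variable {X X' S S' P : Scheme.{u}}

theorem flatRefinable_of_refine {g : X ⟶ S} {h : X' ⟶ X} {f : P ⟶ S} (H : FlatRefinable (h ≫ g) f) :
    FlatRefinable g f := by
  obtain ⟨T, t, m, hm, r⟩ := H
  exact ⟨T, t, m ≫ h, by rw [Category.assoc, hm], r⟩

theorem flatRefinable_of_pullback {g : X ⟶ S} {b : S' ⟶ S} {f : P ⟶ S'}
    (H : FlatRefinable (pullback.snd g b) f) : FlatRefinable g (f ≫ b) := by
  obtain ⟨T, t, m, hm, r⟩ := H
  exact ⟨T, t, m ≫ pullback.fst g b, by rw [Category.assoc, pullback.condition, reassoc_of% hm], r⟩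

theorem pullback_of_flatRefinable {g : X ⟶ S} {b : S' ⟶ S} {f : P ⟶ S'}
    (H : FlatRefinable g (f ≫ b)) : FlatRefinable (pullback.snd g b) f := by
  obtain ⟨T, t, m, hm, r⟩ := H
  exact ⟨T, t, pullback.lift m (t ≫ f) (by rw [hm, Category.assoc]), pullback.lift_snd _ _ _, r⟩

/-- An affine scheme mapping onto a quasi-compact scheme by an etale map. -/
theorem exists_affine_etale (X : Scheme.{u}) [CompactSpace X] :
    ∃ (R : CommRingCat.{u}) (h : Spec R ⟶ X), Etale h ∧ Surjective h ∧ LocallyQuasiFinite h := by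
  let 𝒰 := X.affineCover.finiteSubcover
  haveI : ∀ i, IsAffine (𝒰.X i) := fun i => inferInstanceAs (IsAffine (X.affineCover.X _))
  haveI : IsAffine (∐ 𝒰.X) := inferInstance
  let h₀ : ∐ 𝒰.X ⟶ X := Limits.Sigma.desc 𝒰.f
  haveI : Etale h₀ := IsZariskiLocalAtSource.sigmaDesc fun i => inferInstance
  haveI : Surjective h₀ := ⟨fun x => by
    obtain ⟨i, z, hz⟩ := 𝒰.exists_eq x
    exact ⟨Sigma.ι 𝒰.X i z, by rw [← Scheme.Hom.comp_apply, Sigma.ι_desc]; exact hz⟩⟩
  haveI : LocallyQuasiFinite h₀ := IsZariskiLocalAtSource.sigmaDesc fun i => inferInstance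
  exact ⟨_, (∐ 𝒰.X).isoSpec.inv ≫ h₀, inferInstance, inferInstance, inferInstance⟩

/-- At a valuation ring, a subtrusive morphism of finite presentation is flat refinable at a finitely presented
algebra. -/
theorem exists_fp_flatRefinable' {A : Type u} [CommRing A] {X : Scheme.{u}} (f : X ⟶ Spec (CommRingCat.of A))
    [LocallyOfFinitePresentation f] [QuasiCompact f] [QuasiSeparated f] (hf : Subtr.UnivSSubtrusive f)
    (V : Type u) [CommRing V] [IsDomain V] [ValuationRing V] [Algebra A V] :
    ∃ i : FPIdx A V, FlatRefinable f (Spec.map (CommRingCat.ofHom (algebraMap A i.ring))) := by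
  haveI : CompactSpace X := QuasiCompact.compactSpace_of_compactSpace f
  haveI : QuasiSeparatedSpace X := quasiSeparatedSpace_of_quasiSeparated f
  obtain ⟨R, h, _, _, _⟩ := exists_affine_etale X
  obtain ⟨φ, hφ⟩ := Spec.map_surjective (h ≫ f)
  haveI : QuasiCompact h := by
    haveI : QuasiCompact (h ≫ f) := inferInstance
    exact quasiCompact_of_compactSpace h
  have hg : Subtr.UnivSSubtrusive (Spec.map φ) := hφ ▸ univSSubtrusive_comp h f (univSSubtrusive_of_flat h) hf
  have hfp : φ.hom.FinitePresentation := (HasRingHomProperty.Spec_iff (P := @LocallyOfFinitePresentation)).1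
    (by rw [hφ]; infer_instance)
  obtain ⟨i, hi⟩ := exists_fp_flatRefinable (V := CommRingCat.of V) φ hfp hg
  exact ⟨i, flatRefinable_of_refine (h := h) (hφ ▸ hi)⟩

end Groth.Agent.SubtrRefineLib
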